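import Mathlib

/-!
Unipotent operators of `p`-power order on elementary abelian groups: free operators, pairings
compatible with them, and the tails of cyclic submodules.
-/

set_option autoImplicit false

namespace CfsgLib.ThompsonFive

open Finset Polynomial

variable {V W : Type*} [AddCommGroup V] [AddCommGroup W]

/-- An endomorphism ring of an abelian group of exponent dividing `p` kills `p`. -/
theorem smul_end_eq_zero {p : ℕ} (hV : ∀ v : V, p • v = 0) (x : AddMonoid.End V) :
    (p : AddMonoid.End V) * x = 0 := by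
  ext v
  show (p : AddMonoid.End V) (x v) = 0
  rw [AddMonoid.End.natCast_apply]
  exact hV _

/-- `1 + T + ... + T^(n-1) = (T - 1)^(n-1)` for `n` a power of the exponent. -/
theorem sum_pow_eq {p k : ℕ} [Fact p.Prime] (hV : ∀ v : V, p • v = 0) (T : AddMonoid.End V) :
    ∑ i ∈ range (p ^ k), T ^ i = (T - 1) ^ (p ^ k - 1) := by
  have hp : p.Prime := Fact.out
  have hn : 1 ≤ p ^ k := Nat.one_le_pow _ _ hp.pos
  have key : ((X - 1 : (ZMod p)[X]) ^ (p ^ k - 1)) = ∑ i ∈ range (p ^ k), X ^ i := by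
    refine mul_right_cancel₀ (X_sub_C_ne_zero (1 : ZMod p)) ?_
    rw [map_one, geom_sum_mul, ← pow_succ, Nat.sub_add_cancel hn, sub_pow_char_pow, one_pow]
  set f : ℤ[X] := (∑ i ∈ range (p ^ k), X ^ i) - (X - 1) ^ (p ^ k - 1) with hf
  have h0 : f.map (Int.castRingHom (ZMod p)) = 0 := by
    simp [hf, Polynomial.map_sum, key]
  obtain ⟨g, hg⟩ : C (p : ℤ) ∣ f := by
    rw [C_dvd_iff_dvd_coeff]
    intro i
    have h := congrArg (fun q => coeff q i) h0
    simp only [coeff_map, coeff_zero] at h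
    exact (ZMod.intCast_zmod_eq_zero_iff_dvd _ p).1 h
  have h1 := congrArg (aeval T) hg
  rw [map_mul, aeval_C] at h1
  simp only [hf, map_sub, map_sum, map_pow, aeval_X, map_one, map_natCast,
    smul_end_eq_zero hV] at h1
  exact sub_eq_zero.1 h1

/-- An operator of `p`-power order is unipotent. -/
theorem sub_one_pow_eq_zero {p k : ℕ} [Fact p.Prime] (hV : ∀ v : V, p • v = 0) (T : AddMonoid.End V)
    (hT : T ^ (p ^ k) = 1) : (T - 1) ^ (p ^ k) = 0 := by
  have hn : 1 ≤ p ^ k := Nat.one_le_pow _ _ (Fact.out : p.Prime).pos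
  conv_lhs => rw [← Nat.sub_add_cancel hn, pow_succ, ← sum_pow_eq hV T, geom_sum_mul, hT, sub_self]

/-- The image of a power of an endomorphism. -/
def img (N : AddMonoid.End V) (j : ℕ) : AddSubgroup V :=
  AddMonoidHom.range (N ^ j : AddMonoid.End V)

theorem mem_img {N : AddMonoid.End V} {j : ℕ} {v : V} : v ∈ img N j ↔ ∃ u, (N ^ j) u = v :=
  Iff.rfl

theorem apply_mem_img (N : AddMonoid.End V) (j : ℕ) (u : V) : (N ^ j) u ∈ img N j := ⟨u, rfl⟩

theorem img_anti (N : AddMonoid.End V) {i j : ℕ} (h : i ≤ j) : img N j ≤ img N i := by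
  rintro v ⟨u, rfl⟩
  refine ⟨(N ^ (j - i)) u, ?_⟩
  show (N ^ i * N ^ (j - i)) u = (N ^ j) u
  rw [← pow_add, Nat.add_sub_cancel' h]

theorem img_zero (N : AddMonoid.End V) : img N 0 = ⊤ :=
  top_le_iff.1 fun v _ => ⟨v, by rw [pow_zero]; rfl⟩

theorem img_succ (N : AddMonoid.End V) (j : ℕ) {v : V} :
    v ∈ img N (j + 1) ↔ ∃ u ∈ img N j, N u = v := by
  constructor
  · rintro ⟨w, rfl⟩
    exact ⟨_, apply_mem_img N j w, by rw [pow_succ']; rfl⟩
  · rintro ⟨_, ⟨w, rfl⟩, rfl⟩
    exact ⟨w, by rw [pow_succ']; rfl⟩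

/-- An operator with a trace splitting is free. -/
theorem mem_img_of_trace {p k : ℕ} [Fact p.Prime] (hV : ∀ v : V, p • v = 0) (T φ : AddMonoid.End V)
    (hT : T ^ (p ^ k) = 1) (htr : ∑ i ∈ range (p ^ k), T ^ i * φ * T ^ (p ^ k - i) = 1)
    (v : V) (hv : (T - 1) v = 0) : v ∈ img (T - 1) (p ^ k - 1) := by
  have hTv : T v = v := sub_eq_zero.1 hv
  have hfix : ∀ i, (T ^ i) v = v := fun i => by
    induction i with
    | zero => rw [pow_zero]; rfl
    | succ i ih =>
      rw [pow_succ]
      show (T ^ i) (T v) = v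
      rw [hTv, ih]
  refine ⟨φ v, ?_⟩
  rw [← sum_pow_eq hV T]
  have h := DFunLike.congr_fun htr v
  simp only [AddMonoid.End.coe_one, id_eq] at h
  refine Eq.trans ?_ h
  let ev : V → AddMonoid.End V →+ V := fun u =>
    { toFun := fun f => f u, map_zero' := rfl, map_add' := fun _ _ => rfl }
  show ev (φ v) _ = ev v _
  rw [map_sum, map_sum]
  refine sum_congr rfl fun i _ => ?_
  show (T ^ i) (φ v) = (T ^ i) (φ ((T ^ (p ^ k - i)) v))
  rw [hfix]

/-- A group of order prime to `p` without fixed points gives a trace splitting for any operator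
permuting its non-trivial elements semiregularly. -/
theorem exists_trace {p n : ℕ} [Fact p.Prime] (hn : 0 < n) (hV : ∀ v : V, p • v = 0) {K : Type*}
    [Group K] [Finite K] (hcop : (Nat.card K).Coprime p) (ρ : K →* AddMonoid.End V) (σ : MulAut K)
    (T : AddMonoid.End V) (hT : T ^ n = 1) (hTρ : ∀ x, T * ρ x = ρ (σ x) * T) (hσn : σ ^ n = 1)
    (hσ : ∀ i, 0 < i → i < n → ∀ x, x ≠ 1 → (σ ^ i) x ≠ x)
    (hfix : ∀ v, (∀ x, ρ x v = v) → v = 0) :
    ∃ φ, ∑ i ∈ range n, T ^ i * φ * T ^ (n - i) = 1 := by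
  classical
  cases nonempty_fintype K
  have hsum : ∑ x, ρ x = 0 := by
    ext v
    refine hfix _ fun y => ?_
    show (ρ y * ∑ x, ρ x) v = _
    rw [mul_sum]
    refine congrArg (fun f : AddMonoid.End V => f v) ?_
    exact Fintype.sum_equiv (Equiv.mulLeft y) _ _ fun x => (map_mul ρ y x).symm
  set e := Fintype.equivFin K with he
  have hTi : ∀ i x, T ^ i * ρ x = ρ ((σ ^ i) x) * T ^ i := by
    intro i
    induction i with
    | zero => intro x; simp
    | succ i ih =>
      intro x
      rw [pow_succ', mul_assoc, ih, ← mul_assoc, hTρ, mul_assoc, pow_succ']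
      rfl
  have hmod : ∀ i x, (σ ^ i) x = (σ ^ (i % n)) x := fun i x => by
    conv_lhs => rw [← Nat.mod_add_div i n, pow_add, pow_mul, hσn, one_pow, mul_one]
  set Rs := univ.filter (fun x : K => x ≠ 1 ∧ ∀ i : ℕ, e x ≤ e ((σ ^ i) x)) with hRs
  have hcard0 : ((Fintype.card K : ℕ) : ZMod p) ≠ 0 := by
    rw [Ne, ZMod.natCast_eq_zero_iff, ← Nat.card_eq_fintype_card]
    exact fun h => (Fact.out : p.Prime).ne_one (Nat.eq_one_of_dvd_coprimes hcop h dvd_rfl)
  obtain ⟨c, hc⟩ : ∃ c : ℕ, (c * Fintype.card K : ℕ) ≡ 1 [MOD p] := by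
    refine ⟨((Fintype.card K : ZMod p)⁻¹).val, ?_⟩
    rw [← ZMod.natCast_eq_natCast_iff, Nat.cast_mul, Nat.cast_one, ZMod.natCast_val, ZMod.cast_id,
      inv_mul_cancel₀ hcard0]
  refine ⟨(c : AddMonoid.End V) * ∑ x ∈ Rs, (1 - ρ x), ?_⟩
  have hterm : ∀ i ∈ range n, T ^ i * ((c : AddMonoid.End V) * ∑ x ∈ Rs, (1 - ρ x)) * T ^ (n - i) =
      (c : AddMonoid.End V) * ∑ x ∈ Rs, (1 - ρ ((σ ^ i) x)) := by
    intro i hi
    have hi' : i + (n - i) = n := Nat.add_sub_cancel' (mem_range.1 hi).le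
    rw [← mul_assoc, ← Nat.cast_comm, mul_assoc (c : AddMonoid.End V), mul_assoc, mul_sum, sum_mul]
    refine congrArg _ (sum_congr rfl fun x _ => ?_)
    rw [mul_sub, sub_mul, mul_one, hTi, mul_assoc, ← pow_add, hi', hT, mul_one]
  rw [sum_congr rfl hterm, ← mul_sum, sum_comm, ← sum_product']
  have hbij : ∑ z ∈ Rs ×ˢ range n, (1 - ρ ((σ ^ z.2) z.1)) = ∑ y ∈ univ.erase (1 : K), (1 - ρ y) := by
    refine sum_bij (fun z _ => (σ ^ z.2) z.1) ?_ ?_ ?_ fun z _ => rfl
    · rintro ⟨x, i⟩ hz
      simp only [mem_product, hRs, mem_filter] at hz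
      simp [hz.1.2.1]
    · rintro ⟨x, i⟩ hx ⟨y, j⟩ hy hxy
      simp only [mem_product, hRs, mem_filter, mem_range, mem_univ, true_and] at hx hy
      simp only at hxy
      have key : ∀ (x y : K) (i j : ℕ), (σ ^ i) x = (σ ^ j) y → i < n → j < n →
          y = (σ ^ (n - j + i)) x := by
        intro x y i j h hi hj
        rw [pow_add, MulAut.mul_apply, h, ← MulAut.mul_apply, ← pow_add, Nat.sub_add_cancel hj.le,
          hσn]
        rfl
      have h1 := key x y i j hxy hx.2 hy.2
      have h2 := key y x j i hxy.symm hy.2 hx.2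
      have hle : e x = e y := by
        refine le_antisymm ?_ ?_
        · rw [h1]; exact hx.1.2 _
        · rw [h2]; exact hy.1.2 _
      have hxy' : x = y := e.injective hle
      subst hxy'
      refine Prod.ext rfl ?_
      by_contra hij
      have hfx : (σ ^ ((n - j + i) % n)) x = x := by rw [← hmod]; exact h1.symm
      refine hσ _ (Nat.pos_of_ne_zero fun h0 => hij ?_) (Nat.mod_lt _ hn) x hx.1.1 hfx
      obtain ⟨q, hq⟩ := Nat.dvd_of_mod_eq_zero h0
      have hxn := hx.2
      have hyn := hy.2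
      rcases q with _ | _ | q
      · show i = j
        omega
      · show i = j
        omega
      · have : n * 2 ≤ n * (q + 1 + 1) := Nat.mul_le_mul_left n (by omega)
        omega
    · intro y hy
      have hy1 : y ≠ 1 := (mem_erase.1 hy).1
      obtain ⟨i, hi, hmin⟩ := exists_min_image (range n) (fun i => e ((σ ^ i) y))
        (nonempty_range_iff.2 hn.ne')
      have hi' : i < n := mem_range.1 hi
      refine ⟨⟨(σ ^ i) y, (n - i) % n⟩, ?_, ?_⟩
      · simp only [mem_product, hRs, mem_filter, mem_univ, true_and, mem_range]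
        refine ⟨⟨by simpa using hy1, fun j => ?_⟩, Nat.mod_lt _ hn⟩
        rw [← MulAut.mul_apply, ← pow_add, hmod (j + i)]
        exact hmin _ (mem_range.2 (Nat.mod_lt _ hn))
      · show (σ ^ ((n - i) % n)) ((σ ^ i) y) = y
        rw [← hmod, ← MulAut.mul_apply, ← pow_add, Nat.sub_add_cancel hi'.le, hσn]
        rfl
  rw [hbij, sum_erase _ (by simp), sum_sub_distrib, hsum, sub_zero, sum_const, card_univ,
    nsmul_one, ← Nat.cast_mul]
  ext v
  rw [AddMonoid.End.natCast_apply]
  obtain h := hc.symm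
  have h1 : 1 ≤ c * Fintype.card K := by
    rcases Nat.eq_zero_or_pos (c * Fintype.card K) with h0 | h0
    · rw [h0] at hc
      exact absurd (Nat.modEq_zero_iff_dvd.1 hc.symm) (Fact.out : p.Prime).not_dvd_one
    · exact h0
  obtain ⟨q, hq⟩ := (Nat.modEq_iff_dvd' h1).1 h
  rw [show c * Fintype.card K = 1 + p * q by omega, add_nsmul, one_nsmul, mul_nsmul, hV, nsmul_zero,
    add_zero]
  rfl

/-- Iterates of a compatible pairing. -/
theorem pairing_mem_img (f : V → V → W) (hl : ∀ u u' v, f (u + u') v = f u v + f u' v)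
    (hr : ∀ u v v', f u (v + v') = f u v + f u v') (T : AddMonoid.End V) (S : AddMonoid.End W)
    (hf : ∀ u v, S (f u v) = f (T u) (T v)) {n : ℕ} (hN : (T - 1) ^ n = 0) :
    ∀ i l u v, f (((T - 1) ^ i) u) (((T - 1) ^ l) v) ∈ img (S - 1) (i + l + 1 - n) := by
  set N := T - 1 with hNdef
  have hT : ∀ u, T u = u + N u := fun u => by
    show T u = u + (T u - u)
    abel
  have hid : ∀ u v, f (N u) v = (S - 1) (f u v) - f u (N v) - f (N u) (N v) := by
    intro u v
    show f (N u) v = (S (f u v) - f u v) - f u (N v) - f (N u) (N v)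
    rw [hf, hT u, hT v, hl, hr, hr]
    abel
  have h0 : ∀ u, f u 0 = 0 := fun u => by
    have := hr u 0 0
    rw [add_zero] at this
    exact left_eq_add.1 this
  intro i
  induction i with
  | zero =>
    intro l u v
    rcases Nat.lt_or_ge l n with hl' | hl'
    · rw [show 0 + l + 1 - n = 0 by omega, img_zero]
      exact AddSubgroup.mem_top _
    · have : (N ^ l) v = 0 := by
        rw [← Nat.add_sub_cancel' hl', pow_add, hN, zero_mul]
        rfl
      rw [this, h0]
      exact zero_mem _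
  | succ i ih =>
    intro l
    induction' hd : n - l with d ihd generalizing l
    · intro u v
      have : (N ^ l) v = 0 := by
        rw [← Nat.add_sub_cancel' (show n ≤ l by omega), pow_add, hN, zero_mul]
        rfl
      rw [this, h0]
      exact zero_mem _
    · intro u v
      have e1 : (N ^ (i + 1)) u = N ((N ^ i) u) := by rw [pow_succ']; rfl
      have e2 : N ((N ^ l) v) = (N ^ (l + 1)) v := by rw [pow_succ']; rfl
      rw [e1, hid, e2]
      refine sub_mem (sub_mem ?_ ?_) ?_
      · exact img_anti _ (by omega) ((img_succ _ _).2 ⟨_, ih l u v, rfl⟩)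
      · exact img_anti _ (by omega) (ih (l + 1) u v)
      · rw [← e1]
        exact img_anti _ (by omega) (ihd (l + 1) (by omega) u v)

/-- A unipotent operator with small image has small nilpotency degree. -/
theorem pow_succ_eq_zero_of_card [Finite W] {p k n : ℕ} [Fact p.Prime] (hW : ∀ w : W, p • w = 0)
    {N : AddMonoid.End W} (hN : N ^ n = 0) (hcard : Nat.card (img N 1) ≤ p ^ k) : N ^ (k + 1) = 0 := by
  have hp : p.Prime := Fact.out
  have hpg : ∀ j, ∃ d, Nat.card (img N j) = p ^ d := fun j => by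
    have hP : IsPGroup p (Multiplicative (img N j)) := fun x =>
      ⟨1, Multiplicative.toAdd.injective (Subtype.ext (by simp [hW]))⟩
    obtain ⟨d, hd⟩ := hP.exists_card_eq
    exact ⟨d, by rw [← hd]; exact (Nat.card_congr Multiplicative.toAdd).symm⟩
  have key : ∀ i, img N (i + 1) = ⊥ ∨ Nat.card (img N (i + 1)) * p ^ i ≤ p ^ k := by
    intro i
    induction i with
    | zero => right; simpa using hcard
    | succ i ih =>
      by_cases hb : img N (i + 1 + 1) = ⊥
      · exact Or.inl hb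
      refine Or.inr ?_
      have hle : img N (i + 1 + 1) ≤ img N (i + 1) := img_anti N (Nat.le_succ _)
      have hne : img N (i + 1 + 1) ≠ img N (i + 1) := by
        intro he
        have hall : ∀ m, img N (i + 1 + m) = img N (i + 1) := by
          intro m
          induction m with
          | zero => rfl
          | succ m ihm =>
            ext v
            rw [← add_assoc, img_succ, ihm, ← img_succ, he]
        refine hb (le_bot_iff.1 ?_)
        rw [he, ← hall n]
        refine (img_anti N (Nat.le_add_left n _)).trans ?_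
        rintro _ ⟨u, rfl⟩
        rw [hN]
        rfl
      have hlt : Nat.card (img N (i + 1 + 1)) < Nat.card (img N (i + 1)) :=
        lt_of_le_of_ne (Nat.card_mono (Set.toFinite _) hle) fun he =>
          hne (AddSubgroup.eq_of_le_of_card_ge hle he.ge)
      rcases ih with ih | ih
      · exact absurd (le_bot_iff.1 (ih ▸ hle)) hb
      obtain ⟨d, hd⟩ := hpg (i + 1 + 1)
      obtain ⟨d', hd'⟩ := hpg (i + 1)
      rw [hd, hd'] at hlt
      rw [hd, pow_succ, ← mul_assoc]
      calc p ^ d * p ^ i * p = p ^ (d + 1) * p ^ i := by ring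
        _ ≤ p ^ d' * p ^ i := Nat.mul_le_mul_right _
            (Nat.pow_le_pow_right hp.pos ((Nat.pow_lt_pow_iff_right hp.one_lt).1 hlt))
        _ ≤ p ^ k := hd' ▸ ih
  rcases key k with h | h
  · ext w
    exact (AddSubgroup.eq_bot_iff_forall _).1 h _ (apply_mem_img N _ w)
  · have h1 : Nat.card (img N (k + 1)) ≤ 1 :=
      Nat.le_of_mul_le_mul_right (by simpa using h) (pow_pos hp.pos k)
    ext w
    exact (AddSubgroup.eq_bot_iff_forall _).1
      (AddSubgroup.eq_bot_of_card_le _ h1) _ (apply_mem_img N _ w)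

/-- Lower bound for a subgroup containing a tail of a cyclic sequence. -/
theorem pow_le_card_of_mem [Finite V] {p n : ℕ} [Fact p.Prime] (hV : ∀ v : V, p • v = 0)
    {N : AddMonoid.End V} (hN : N ^ n = 0) {v : V} (hv : (N ^ (n - 1)) v ≠ 0) :
    ∀ (j : ℕ) (H : AddSubgroup V), (∀ i, j ≤ i → (N ^ i) v ∈ H) → p ^ (n - j) ≤ Nat.card H := by
  have hp : p.Prime := Fact.out
  intro j
  induction' hd : n - j with d ih generalizing j
  · intro H _
    exact Nat.one_le_iff_ne_zero.2 Nat.card_pos.ne'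
  intro H hH
  set H' := H ⊓ img N (j + 1) with hH'
  have h1 : p ^ d ≤ Nat.card H' := ih (j + 1) (by omega) H' fun i hi =>
    ⟨hH i (by omega), img_anti N hi (apply_mem_img N i v)⟩
  have hlt : Nat.card H' < Nat.card H := by
    refine lt_of_le_of_ne (Nat.card_mono (Set.toFinite _) inf_le_left) fun he => ?_
    have hmem : (N ^ j) v ∈ H' := by
      have heq : H' = H := AddSubgroup.eq_of_le_of_card_ge inf_le_left he.ge
      rw [heq]
      exact hH j le_rfl
    obtain ⟨u, hu⟩ := hmem.2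
    refine hv ?_
    rw [show n - 1 = (n - 1 - j) + j by omega, pow_add]
    show (N ^ (n - 1 - j)) ((N ^ j) v) = 0
    rw [← hu]
    show (N ^ (n - 1 - j) * N ^ (j + 1)) u = 0
    rw [← pow_add, show n - 1 - j + (j + 1) = n by omega, hN]
    rfl
  have hP : IsPGroup p (Multiplicative V) := fun x =>
    ⟨1, Multiplicative.toAdd.injective (by simp [hV])⟩
  obtain ⟨e, he⟩ := (hP.to_subgroup (AddSubgroup.toSubgroup H)).exists_card_eq
  obtain ⟨e', he'⟩ := (hP.to_subgroup (AddSubgroup.toSubgroup H')).exists_card_eq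
  have he : Nat.card H = p ^ e := he
  have he' : Nat.card H' = p ^ e' := he'
  rw [he, he'] at hlt
  rw [he'] at h1
  rw [he, pow_succ]
  calc p ^ d * p ≤ p ^ e' * p := Nat.mul_le_mul_right _ h1
    _ = p ^ (e' + 1) := (pow_succ p e').symm
    _ ≤ p ^ e := Nat.pow_le_pow_right hp.pos ((Nat.pow_lt_pow_iff_right hp.one_lt).1 hlt)

/-- The fixed points in a cyclic tail form a line. -/
theorem mem_zmultiples_of_tail {p n : ℕ} [Fact p.Prime] (hV : ∀ v : V, p • v = 0)
    {N : AddMonoid.End V} (hN : N ^ n = 0) {v : V} (hv : (N ^ (n - 1)) v ≠ 0) :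
    ∀ j, ∀ u ∈ AddSubgroup.closure {w | ∃ i, j ≤ i ∧ (N ^ i) v = w}, N u = 0 →
      u ∈ AddSubgroup.zmultiples ((N ^ (n - 1)) v) := by
  intro j
  induction' hd : n - j with d ih generalizing j
  · intro u hu _
    have h0 : AddSubgroup.closure {w | ∃ i, j ≤ i ∧ (N ^ i) v = w} ≤ ⊥ := by
      rw [AddSubgroup.closure_le]
      rintro w ⟨i, hi, rfl⟩
      have : N ^ i = 0 := by rw [show i = (i - n) + n by omega, pow_add, hN, mul_zero]
      rw [this]
      rfl
    rw [AddSubgroup.mem_bot.1 (h0 hu)]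
    exact zero_mem _
  intro u hu hNu
  have hsplit : AddSubgroup.closure {w | ∃ i, j ≤ i ∧ (N ^ i) v = w} ≤
      AddSubgroup.zmultiples ((N ^ j) v) ⊔ AddSubgroup.closure {w | ∃ i, j + 1 ≤ i ∧ (N ^ i) v = w} := by
    rw [AddSubgroup.closure_le]
    rintro w ⟨i, hi, rfl⟩
    rcases hi.eq_or_lt with rfl | hlt
    · exact AddSubgroup.mem_sup_left (AddSubgroup.mem_zmultiples _)
    · exact AddSubgroup.mem_sup_right (AddSubgroup.subset_closure ⟨i, hlt, rfl⟩)
  obtain ⟨x, hx, y, hy, rfl⟩ := AddSubgroup.mem_sup.1 (hsplit hu)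
  obtain ⟨c, rfl⟩ := AddSubgroup.mem_zmultiples_iff.1 hx
  by_cases hj : j = n - 1
  · have hy0 : y = 0 := by
      have h0 : AddSubgroup.closure {w | ∃ i, j + 1 ≤ i ∧ (N ^ i) v = w} ≤ ⊥ := by
        rw [AddSubgroup.closure_le]
        rintro w ⟨i, hi, rfl⟩
        have : N ^ i = 0 := by rw [show i = (i - n) + n by omega, pow_add, hN, mul_zero]
        rw [this]
        rfl
      exact AddSubgroup.mem_bot.1 (h0 hy)
    rw [hy0, add_zero, hj]
    exact AddSubgroup.zsmul_mem _ (AddSubgroup.mem_zmultiples _) c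
  -- apply a power of `N`
  have hy' : ∀ z ∈ AddSubgroup.closure {w | ∃ i, j + 1 ≤ i ∧ (N ^ i) v = w},
      (N ^ (n - 1 - j)) z = 0 := by
    intro z hz
    induction hz using AddSubgroup.closure_induction with
    | mem w hw =>
      obtain ⟨i, hi, rfl⟩ := hw
      show (N ^ (n - 1 - j) * N ^ i) v = 0
      rw [← pow_add, show n - 1 - j + i = (i + (n - 1 - j) - n) + n by omega, pow_add, hN, mul_zero]
      rfl
    | zero => exact map_zero _
    | add a b _ _ ha hb => rw [map_add, ha, hb, add_zero]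
    | neg a _ ha => rw [map_neg, ha, neg_zero]
  have h2 : c • (N ^ (n - 1)) v = 0 := by
    have h3 : (N ^ (n - 1 - j)) (c • (N ^ j) v + y) = 0 := by
      rw [show n - 1 - j = (n - 1 - j - 1) + 1 by omega, pow_succ]
      show (N ^ (n - 1 - j - 1)) (N (c • (N ^ j) v + y)) = 0
      rw [hNu, map_zero]
    rw [map_add, hy' y hy, add_zero, map_zsmul] at h3
    have h4 : (N ^ (n - 1 - j)) ((N ^ j) v) = (N ^ (n - 1)) v := by
      show (N ^ (n - 1 - j) * N ^ j) v = (N ^ (n - 1)) v
      rw [← pow_add, show n - 1 - j + j = n - 1 by omega]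
    rwa [h4] at h3
  obtain ⟨e, he⟩ : (p : ℤ) ∣ c := by
    have hord : addOrderOf ((N ^ (n - 1)) v) = p := addOrderOf_eq_prime (hV _) hv
    rw [← hord]
    exact addOrderOf_dvd_iff_zsmul_eq_zero.2 h2
  have hx0 : c • (N ^ j) v = 0 := by
    rw [he, mul_comm, mul_smul, natCast_zsmul, hV, zsmul_zero]
  rw [hx0, zero_add] at hNu ⊢
  exact ih (j + 1) (by omega) y hy hNu

end CfsgLib.ThompsonFive
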