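import Cfsg.Agent.Lib.ThompsonFive.Count
import Cfsg.Agent.Lib.AbelianOffender
import Cfsg.Agent.Lib.CoprimeGen
import Cfsg.Agent.Lib.Elementary

/-!
A minimal section of a `p`-group on which a `p'`-group acts non-trivially.
-/

set_option autoImplicit false
set_option linter.unusedSectionVars false
set_option maxHeartbeats 400000

namespace CfsgLib.ThompsonFive

open CfsgLib CfsgLib.Local
open scoped commutatorElement

variable {G : Type*} [Group G] [Finite G] {p : ℕ} [Fact p.Prime]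

/-- A subgroup closed under conjugation by an element is normalized by it. -/
theorem mem_normalizer_of_conj {X : Subgroup G} {g : G} (h : ∀ x ∈ X, g * x * g⁻¹ ∈ X) :
    g ∈ Subgroup.normalizer (X : Set G) :=
  mem_normalizer_of_map_conj_eq (Subgroup.eq_of_le_of_card_ge (map_conj_le h)
    (Subgroup.card_map_of_injective (MulAut.conj g).injective).ge)

/-- An element of order prime to `p` which fixes the displacement of a point fixes the point. -/
theorem eq_one_of_fix {B : Subgroup G} (hB : IsPGroup p B) {x b d : G} (hx : (orderOf x).Coprime p)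
    (h : x * b * x⁻¹ = d * b) (hd : x * d * x⁻¹ = d) (hdB : d ∈ B) : d = 1 := by
  have e := CfsgLib.AbelianOffender.conj_pow_eq h hd (orderOf x)
  rw [pow_orderOf_eq_one, one_mul, inv_one, mul_one, eq_comm, mul_eq_right] at e
  obtain ⟨j, hj⟩ := hB ⟨d, hdB⟩
  exact orderOf_eq_one_iff.1 (Nat.eq_one_of_dvd_coprimes (hx.pow_right j)
    (orderOf_dvd_of_pow_eq_one e) (orderOf_dvd_of_pow_eq_one (congrArg Subtype.val hj)))

/-- No abelian subgroup can stay outside: the counting argument on a minimal section. -/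
theorem core (hp5 : 5 ≤ p) {k : ℕ} (hk : 1 ≤ k) {O1 L A1 : Subgroup G} {a : G}
    (hO1 : IsPGroup p O1) (hA1O : A1 ≤ O1) (hA1c : ∀ x ∈ A1, ∀ y ∈ A1, x * y = y * x)
    (hA1a : ∀ x ∈ A1, a * x = x * a) (han : a ^ p ^ k ∈ A1)
    (hOL : O1 ≤ L) (hLO : L ≤ Subgroup.normalizer (O1 : Set G))
    (haL : a ∈ Subgroup.normalizer (L : Set G)) (haO : a ∈ Subgroup.normalizer (O1 : Set G))
    (hLcop : ∀ m ∈ L, m ^ p ∈ O1 → m ∈ O1)
    (hsemi : ∀ i, 0 < i → i < p ^ k → ∀ m ∈ L, a ^ i * m * (a ^ i)⁻¹ * m⁻¹ ∈ O1 → m ∈ O1)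
    (hfaith : ∃ m ∈ L, (orderOf m).Coprime p ∧ ∃ v ∈ O1, m * v ≠ v * m)
    (hbound : ∀ X : Subgroup G, X ≤ O1 → (∀ x ∈ X, ∀ y ∈ X, x * y = y * x) →
      Nat.card X ≤ Nat.card A1 * p ^ k) : False := by
  classical
  have hp : p.Prime := Fact.out
  set Rset : Set G := {m | m ∈ L ∧ (orderOf m).Coprime p} with hRset
  set S : Set (Subgroup G) := {B | B ≤ O1 ∧ L ≤ Subgroup.normalizer (B : Set G) ∧
    a ∈ Subgroup.normalizer (B : Set G) ∧ ∃ m ∈ Rset, ∃ v ∈ B, m * v ≠ v * m} with hS
  have hSne : S.Nonempty := ⟨O1, le_rfl, hLO, haO, by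
    obtain ⟨m, hm, hmc, v, hv, hne⟩ := hfaith
    exact ⟨m, ⟨hm, hmc⟩, v, hv, hne⟩⟩
  obtain ⟨B, ⟨hBO, hLB, haB, hBne⟩, hmin⟩ := Set.exists_min_image S (fun B => Nat.card B)
    (Set.toFinite _) hSne
  have hBp : IsPGroup p B := hO1.to_le hBO
  -- proper invariant subgroups are centralized
  set W := B ⊓ Subgroup.centralizer Rset with hW
  have hsmall : ∀ C : Subgroup G, C ≤ B → C ≠ B → L ≤ Subgroup.normalizer (C : Set G) →
      a ∈ Subgroup.normalizer (C : Set G) → C ≤ W := by
    intro C hCB hne hLC haC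
    refine le_inf hCB fun v hv m hm => ?_
    by_contra hcon
    have hmem : C ∈ S := ⟨hCB.trans hBO, hLC, haC, m, hm, v, hv, hcon⟩
    exact hne (Subgroup.eq_of_le_of_card_ge hCB (hmin C hmem))
  -- conjugation permutes the elements of order prime to `p`
  have hRconj : ∀ g, g ∈ Subgroup.normalizer (L : Set G) → ∀ m ∈ Rset, g * m * g⁻¹ ∈ Rset := by
    intro g hg m hm
    refine ⟨(Subgroup.mem_normalizer_iff.1 hg m).1 hm.1, ?_⟩
    rw [show g * m * g⁻¹ = MulAut.conj g m from rfl, MulEquiv.orderOf_eq]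
    exact hm.2
  have hWn : ∀ g, g ∈ Subgroup.normalizer (L : Set G) → g ∈ Subgroup.normalizer (B : Set G) →
      g ∈ Subgroup.normalizer (W : Set G) := by
    intro g hgL hgB
    refine mem_normalizer_of_conj fun v hv =>
      ⟨(Subgroup.mem_normalizer_iff.1 hgB v).1 hv.1, fun m hm => ?_⟩
    have h1 := hv.2 (g⁻¹ * m * g) (by simpa using hRconj g⁻¹ (inv_mem hgL) m hm)
    calc m * (g * v * g⁻¹) = g * ((g⁻¹ * m * g) * v) * g⁻¹ := by group
      _ = g * (v * (g⁻¹ * m * g)) * g⁻¹ := by rw [h1]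
      _ = g * v * g⁻¹ * m := by group
  have haW : a ∈ Subgroup.normalizer (W : Set G) := hWn a haL haB
  have hLW : L ≤ Subgroup.normalizer (W : Set G) := fun g hg => hWn g (Subgroup.le_normalizer hg) (hLB hg)
  have hWB : W ≤ B := inf_le_left
  have hne : ¬ B ≤ W := by
    intro h
    obtain ⟨m, hm, v, hv, hne⟩ := hBne
    exact hne ((h hv).2 m hm)
  -- `B` is generated by displacements
  set D := Subgroup.closure {x : G | ∃ m ∈ Rset, ∃ v ∈ B, m * v * m⁻¹ * v⁻¹ = x} with hD
  have hDB : D ≤ B := by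
    rw [hD, Subgroup.closure_le]
    rintro _ ⟨m, hm, v, hv, rfl⟩
    exact B.mul_mem ((Subgroup.mem_normalizer_iff.1 (hLB hm.1) v).1 hv) (B.inv_mem hv)
  have hDn : ∀ g, g ∈ Subgroup.normalizer (L : Set G) → g ∈ Subgroup.normalizer (B : Set G) →
      g ∈ Subgroup.normalizer (D : Set G) := by
    intro g hgL hgB
    refine mem_normalizer_of_conj fun x hx => ?_
    have : D ≤ D.comap (MulAut.conj g).toMonoidHom := by
      rw [hD, Subgroup.closure_le]
      rintro _ ⟨m, hm, v, hv, rfl⟩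
      refine Subgroup.subset_closure ⟨g * m * g⁻¹, hRconj g hgL m hm, g * v * g⁻¹,
        (Subgroup.mem_normalizer_iff.1 hgB v).1 hv, ?_⟩
      show _ = g * (m * v * m⁻¹ * v⁻¹) * g⁻¹
      group
    exact this hx
  have hDeq : D = B := by
    by_contra hcon
    have hDW := hsmall D hDB hcon (fun g hg => hDn g (Subgroup.le_normalizer hg) (hLB hg))
      (hDn a haL haB)
    obtain ⟨m, hm, v, hv, hne⟩ := hBne
    set d := m * v * m⁻¹ * v⁻¹ with hd
    have hdW : d ∈ W := hDW (Subgroup.subset_closure ⟨m, hm, v, hv, rfl⟩)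
    have h1 : m * d * m⁻¹ = d := by rw [hdW.2 m hm, mul_inv_cancel_right]
    have h2 := eq_one_of_fix hBp hm.2 (b := v) (by rw [hd]; group) h1 hdW.1
    rw [hd, mul_inv_eq_one, mul_inv_eq_iff_eq_mul] at h2
    exact hne h2
  -- the commutator subgroup and the powers are centralized
  haveI : Nontrivial B := (Subgroup.nontrivial_iff_ne_bot B).2 fun e => hne (e.trans_le bot_le)
  have hΦ : (frattini B).map B.subtype ≤ W := by
    refine hsmall _ (Subgroup.map_subtype_le _) ?_ ?_ ?_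
    · intro e
      have h1 : frattini B = ⊤ := Subgroup.map_injective B.subtype_injective (by
        rw [e, ← MonoidHom.range_eq_map, Subgroup.range_subtype])
      have h2 := frattini_nongenerating (G := B) (K := ⊥) (by rw [h1, sup_top_eq])
      exact bot_ne_top h2
    · exact (CfsgLib.le_normalizer_map_characteristic hLB (frattini B)).1
    · exact (CfsgLib.le_normalizer_map_characteristic (Subgroup.zpowers_le.2 haB) (frattini B)).1
        (Subgroup.mem_zpowers a)
  have hcomm : ∀ b ∈ B, ∀ c ∈ B, ⁅b, c⁆ ∈ W := by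
    intro b hb c hc
    refine hΦ ⟨⁅(⟨b, hb⟩ : B), ⟨c, hc⟩⁆, CfsgLib.commutator_le_frattini_pGroup hBp
      (Subgroup.commutator_mem_commutator (Subgroup.mem_top _) (Subgroup.mem_top _)), ?_⟩
    exact map_commutatorElement B.subtype _ _
  have hpow : ∀ b ∈ B, b ^ p ∈ W := fun b hb =>
    hΦ ⟨(⟨b, hb⟩ : B) ^ p, CfsgLib.pow_mem_frattini_pGroup hBp _, rfl⟩
  -- three subgroups: `W` is central in `B`
  have hcen : ∀ w ∈ W, ∀ b ∈ B, w * b = b * w := by
    set R := Subgroup.closure Rset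
    have hWR : W ≤ Subgroup.centralizer (R : Set G) := by
      rw [Subgroup.centralizer_closure]; exact inf_le_right
    have hRL : R ≤ L := by
      rw [Subgroup.closure_le]; exact fun m hm => hm.1
    have hBRB : B ≤ ⁅R, B⁆ := by
      rw [← hDeq, hD, Subgroup.closure_le]
      rintro _ ⟨m, hm, v, hv, rfl⟩
      exact Subgroup.commutator_mem_commutator (Subgroup.subset_closure hm)
        (show v ∈ D from hDeq ▸ hv)
    have h3 : ⁅⁅R, B⁆, W⁆ = ⊥ := by
      refine Subgroup.commutator_commutator_eq_bot_of_rotate ?_ ?_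
      · have hBW : ⁅B, W⁆ ≤ W := by
          rw [Subgroup.commutator_le]
          intro b hb w hw
          exact hcomm b hb w (hWB hw)
        refine le_bot_iff.1 ((Subgroup.commutator_mono hBW le_rfl).trans ?_)
        rw [le_bot_iff, Subgroup.commutator_eq_bot_iff_le_centralizer]
        exact hWR
      · rw [(Subgroup.commutator_eq_bot_iff_le_centralizer).2 hWR, Subgroup.commutator_bot_left]
    intro w hw b hb
    exact ((Subgroup.commutator_eq_bot_iff_le_centralizer.1 h3) (hBRB hb) w hw)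
  -- exponent `p`
  have hexp : ∀ b ∈ B, b ^ p = 1 := by
    have hodd : p ≠ 2 := by omega
    obtain ⟨c2, hc2⟩ : p ∣ p.choose 2 := hp.dvd_choose_self (by norm_num) (by omega)
    have hmul : ∀ u ∈ B, ∀ v ∈ B, (u * v) ^ p = u ^ p * v ^ p * ((⁅v, u⁆) ^ p) ^ c2 := by
      intro u hu v hv
      have hc := hcomm v hv u hu
      rw [ZJ.mul_pow_class_two (u := u) (v := v) (c := ⁅v, u⁆)
        (by simp [commutatorElement_def, mul_assoc]) (hcen _ hc u hu) (hcen _ hc v hv) p, hc2, pow_mul]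
    have hcp : ∀ u ∈ B, ∀ v ∈ B, ⁅v, u⁆ ^ p = ⁅v, u ^ p⁆ := by
      intro u hu v hv
      have hc : Commute ⁅v, u⁆ u := hcen _ (hcomm v hv u hu) u hu
      have : ∀ i, ⁅v, u ^ i⁆ = ⁅v, u⁆ ^ i := by
        intro i
        induction i with
        | zero => simp
        | succ i ih =>
          rw [pow_succ u, pow_succ' ⁅v, u⁆, ← ih]
          calc ⁅v, u ^ i * u⁆ = ⁅v, u ^ i⁆ * (u ^ i * ⁅v, u⁆ * (u ^ i)⁻¹) := by
                simp only [commutatorElement_def]; group
            _ = ⁅v, u ^ i⁆ * ⁅v, u⁆ := by rw [← (hc.pow_right i).eq, mul_inv_cancel_right]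
            _ = _ := by rw [ih, ← pow_succ, pow_succ']
      exact (this p).symm
    have hc1 : ∀ u ∈ B, ∀ v ∈ B, ⁅v, u⁆ ^ p = 1 := by
      intro u hu v hv
      rw [hcp u hu v hv, commutatorElement_eq_one_iff_mul_comm]
      exact (hcen _ (hpow u hu) v hv).symm
    have hhom : ∀ u ∈ B, ∀ v ∈ B, (u * v) ^ p = u ^ p * v ^ p := fun u hu v hv => by
      rw [hmul u hu v hv, hc1 u hu v hv, one_pow, mul_one]
    intro b hb
    rw [← hDeq] at hb
    have : b ∈ B ∧ b ^ p = 1 := by
      induction hb using Subgroup.closure_induction with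
      | mem x hx =>
        obtain ⟨m, hm, v, hv, rfl⟩ := hx
        have hmv : m * v * m⁻¹ ∈ B := (Subgroup.mem_normalizer_iff.1 (hLB hm.1) v).1 hv
        refine ⟨B.mul_mem hmv (B.inv_mem hv), ?_⟩
        rw [hhom _ hmv _ (B.inv_mem hv), conj_pow]
        have h1 : m * v ^ p = v ^ p * m := (hpow v hv).2 m hm
        rw [h1, mul_inv_cancel_right, inv_pow, mul_inv_cancel]
      | one => exact ⟨B.one_mem, one_pow p⟩
      | mul x y _ _ ihx ihy =>
        exact ⟨B.mul_mem ihx.1 ihy.1, by rw [hhom _ ihx.1 _ ihy.1, ihx.2, ihy.2, one_mul]⟩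
      | inv x _ ihx => exact ⟨B.inv_mem ihx.1, by rw [inv_pow, ihx.2, inv_one]⟩
    exact this.2
  -- `O₁` stabilizes `W < B`
  have hOV : ∀ o ∈ O1, ∀ b ∈ B, ⁅o, b⁆ ∈ W := by
    have hC : ⁅O1, B⁆ ≤ W := by
      have hOB : O1 ≤ Subgroup.normalizer (B : Set G) := hOL.trans hLB
      have hle : ⁅O1, B⁆ ≤ B := Subgroup.commutator_le.2 fun o ho b hb => by
        rw [commutatorElement_def]
        exact B.mul_mem ((Subgroup.mem_normalizer_iff.1 (hOB ho) b).1 hb) (B.inv_mem hb)
      have hn : ∀ g, g ∈ Subgroup.normalizer (O1 : Set G) → g ∈ Subgroup.normalizer (B : Set G) →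
          g ∈ Subgroup.normalizer ((⁅O1, B⁆ : Subgroup G) : Set G) := by
        intro g h1 h2
        refine mem_normalizer_of_map_conj_eq ?_
        rw [Subgroup.map_commutator, map_conj_eq_of_mem_normalizer h1, map_conj_eq_of_mem_normalizer h2]
      refine hsmall _ hle (fun e => ?_) (fun g hg => hn g (hLO hg) (hLB hg)) (hn a haO haB)
      exact hne ((CfsgLib.AbelianOffender.eq_bot_of_le_commutator hO1 hBp hOB le_rfl e.ge).le.trans bot_le)
    exact fun o ho b hb => hC (Subgroup.commutator_mem_commutator ho hb)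
  -- no fixed points on `B / W`
  have hfix : ∀ b ∈ B, (∀ m ∈ L, ⁅m, b⁆ ∈ W) → b ∈ W := by
    intro b hb h
    refine ⟨hb, fun m hm => ?_⟩
    set d := m * b * m⁻¹ * b⁻¹ with hd
    have hdW : d ∈ W := by simpa [hd, commutatorElement_def] using h m hm.1
    have h1 : m * d * m⁻¹ = d := by rw [hdW.2 m hm, mul_inv_cancel_right]
    have h2 := eq_one_of_fix hBp hm.2 (b := b) (by rw [hd]; group) h1 hdW.1
    rw [hd, mul_inv_eq_one, mul_inv_eq_iff_eq_mul] at h2
    exact h2
  exact count hp5 hk hBO hA1O hA1c hA1a han hWB hcen hcomm hexp haB haW hOL hLO haL haO hLB hLW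
    hLcop hsemi hOV hfix hne hbound

end CfsgLib.ThompsonFive
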