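import Cfsg.Agent.Lib.ThompsonFive.Algebra
import Cfsg.Agent.Lib.ZJ.Replacement
import Cfsg.Agent.Lib.Products
import Cfsg.Agent.Lib.Local

/-!
A free cyclic submodule of a section of a `p`-group gives, for `p ≥ 5`, an abelian subgroup which
is too large.
-/

set_option autoImplicit false
set_option linter.unusedSectionVars false
set_option maxHeartbeats 1600000

namespace CfsgLib.ThompsonFive

open CfsgLib CfsgLib.Local
open scoped commutatorElement

variable {G : Type*} [Group G] [Finite G] {p : ℕ} [Fact p.Prime]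

/-- Conjugation inside a normalized subgroup. -/
def conjRes {B : Subgroup G} {g : G} (hg : g ∈ Subgroup.normalizer (B : Set G)) : B →* B where
  toFun b := ⟨g * (b : G) * g⁻¹, (Subgroup.mem_normalizer_iff.1 hg b).1 b.2⟩
  map_one' := Subtype.ext (by simp)
  map_mul' x y := Subtype.ext (by simp [mul_assoc])

@[simp] theorem coe_conjRes {B : Subgroup G} {g : G} (hg : g ∈ Subgroup.normalizer (B : Set G))
    (b : B) : (conjRes hg b : G) = g * (b : G) * g⁻¹ := rfl

/-- The counting argument. -/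
theorem count (hp5 : 5 ≤ p) {k : ℕ} (hk : 1 ≤ k) {O1 L A1 B W : Subgroup G} {a : G}
    (hBO : B ≤ O1) (hA1O : A1 ≤ O1) (hA1c : ∀ x ∈ A1, ∀ y ∈ A1, x * y = y * x)
    (hA1a : ∀ x ∈ A1, a * x = x * a) (han : a ^ p ^ k ∈ A1)
    (hWB : W ≤ B) (hcen : ∀ w ∈ W, ∀ b ∈ B, w * b = b * w)
    (hcomm : ∀ b ∈ B, ∀ c ∈ B, ⁅b, c⁆ ∈ W) (hexp : ∀ b ∈ B, b ^ p = 1)
    (haB : a ∈ Subgroup.normalizer (B : Set G)) (haW : a ∈ Subgroup.normalizer (W : Set G))
    (hOL : O1 ≤ L) (hLO : L ≤ Subgroup.normalizer (O1 : Set G))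
    (haL : a ∈ Subgroup.normalizer (L : Set G)) (haO : a ∈ Subgroup.normalizer (O1 : Set G))
    (hLB : L ≤ Subgroup.normalizer (B : Set G)) (hLW : L ≤ Subgroup.normalizer (W : Set G))
    (hLcop : ∀ m ∈ L, m ^ p ∈ O1 → m ∈ O1)
    (hsemi : ∀ i, 0 < i → i < p ^ k → ∀ m ∈ L, a ^ i * m * (a ^ i)⁻¹ * m⁻¹ ∈ O1 → m ∈ O1)
    (hOV : ∀ o ∈ O1, ∀ b ∈ B, ⁅o, b⁆ ∈ W)
    (hfix : ∀ b ∈ B, (∀ m ∈ L, ⁅m, b⁆ ∈ W) → b ∈ W) (hne : ¬ B ≤ W)
    (hbound : ∀ X : Subgroup G, X ≤ O1 → (∀ x ∈ X, ∀ y ∈ X, x * y = y * x) →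
      Nat.card X ≤ Nat.card A1 * p ^ k) : False := by
  classical
  have hp : p.Prime := Fact.out
  set n := p ^ k with hn
  have hnp : p ≤ n := by rw [hn]; exact Nat.le_self_pow (by omega) p
  set W' := W.subgroupOf B with hW'
  haveI : W'.Normal := ⟨fun w hw b => by
    rw [Subgroup.mem_subgroupOf] at hw ⊢
    rw [Subgroup.coe_mul, Subgroup.coe_mul, InvMemClass.coe_inv, ← hcen _ hw b b.2,
      mul_inv_cancel_right]
    exact hw⟩
  letI : CommGroup (B ⧸ W') :=
    { (inferInstance : Group (B ⧸ W')) with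
      mul_comm := by
        intro u v
        induction u using QuotientGroup.induction_on with
        | H x =>
        induction v using QuotientGroup.induction_on with
        | H y =>
        rw [← QuotientGroup.mk_mul, ← QuotientGroup.mk_mul]
        refine QuotientGroup.eq.2 (Subgroup.mem_subgroupOf.2 ?_)
        have e : (((x * y)⁻¹ * (y * x) : B) : G) = ⁅(y : G)⁻¹, (x : G)⁻¹⁆ := by
          simp [commutatorElement_def, mul_assoc]
        rw [e]
        exact hcomm _ (B.inv_mem y.2) _ (B.inv_mem x.2) }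
  let V := Additive (B ⧸ W')
  let mk : B → V := fun b => Additive.ofMul (QuotientGroup.mk b)
  have mk_surj : ∀ v : V, ∃ b, mk b = v := fun v =>
    ⟨(Additive.toMul v).out, by simp [mk]⟩
  have mk_mul : ∀ x y, mk (x * y) = mk x + mk y := fun x y => rfl
  have mk_inv : ∀ x, mk x⁻¹ = - mk x := fun x => rfl
  have mk_zero : ∀ x : B, mk x = 0 ↔ (x : G) ∈ W := fun x =>
    (QuotientGroup.eq_one_iff x).trans Subgroup.mem_subgroupOf
  have mk_eq : ∀ x y : B, mk x = mk y → ∃ w ∈ W, (y : G) = w * x := by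
    intro x y h
    have h1 : mk (y * x⁻¹) = 0 := by rw [mk_mul, mk_inv, h, add_neg_cancel]
    refine ⟨_, (mk_zero _).1 h1, ?_⟩
    simp
  have hV : ∀ v : V, p • v = 0 := by
    intro v
    obtain ⟨b, rfl⟩ := mk_surj v
    show Additive.ofMul ((QuotientGroup.mk b : B ⧸ W') ^ p) = 0
    rw [← QuotientGroup.mk_pow, show b ^ p = 1 from Subtype.ext (by simpa using hexp b b.2)]
    rfl
  -- the action on `V`
  let act : ∀ g : G, g ∈ Subgroup.normalizer (B : Set G) →
      g ∈ Subgroup.normalizer (W : Set G) → AddMonoid.End V := fun g hgB hgW =>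
    MonoidHom.toAdditive (QuotientGroup.map W' W' (conjRes hgB) (fun w hw => by
      rw [Subgroup.mem_comap, Subgroup.mem_subgroupOf, coe_conjRes]
      exact (Subgroup.mem_normalizer_iff.1 hgW w).1 (Subgroup.mem_subgroupOf.1 hw)))
  have act_mk : ∀ g hgB hgW (b : B), act g hgB hgW (mk b) = mk (conjRes hgB b) := fun _ _ _ _ => rfl
  have act_one_iff : ∀ g hgB hgW, (∀ b ∈ B, ⁅g, b⁆ ∈ W) → act g hgB hgW = 1 := by
    intro g hgB hgW h
    ext v
    obtain ⟨b, rfl⟩ := mk_surj v
    show mk (conjRes hgB b) = mk b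
    have h1 : mk (conjRes hgB b * b⁻¹) = 0 := (mk_zero _).2 (by
      simpa [commutatorElement_def] using h b b.2)
    rwa [mk_mul, mk_inv, add_neg_eq_zero] at h1
  set T : AddMonoid.End V := act a haB haW with hTdef
  have hTmk : ∀ b : B, T (mk b) = mk (conjRes haB b) := fun b => rfl
  have hTpow : ∀ i (h1 : a ^ i ∈ Subgroup.normalizer (B : Set G))
      (h2 : a ^ i ∈ Subgroup.normalizer (W : Set G)), T ^ i = act (a ^ i) h1 h2 := by
    intro i
    induction i with
    | zero =>
      intro h1 h2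
      rw [pow_zero]
      exact (act_one_iff _ h1 h2 fun b _ => by simp).symm
    | succ i ih =>
      intro h1 h2
      rw [pow_succ', ih (pow_mem haB i) (pow_mem haW i)]
      refine DFunLike.ext _ _ fun v => ?_
      obtain ⟨b, rfl⟩ := mk_surj v
      show mk (conjRes haB (conjRes (pow_mem haB i) b)) = mk (conjRes h1 b)
      exact congrArg mk (Subtype.ext (by simp [pow_succ', mul_assoc]))
  have hTn : T ^ n = 1 := by
    rw [hTpow n (pow_mem haB _) (pow_mem haW _)]
    exact act_one_iff _ (pow_mem haB _) (pow_mem haW _) fun b hb => hOV _ (hA1O han) b hb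
  set N := T - 1 with hNdef
  have hNn : N ^ n = 0 := sub_one_pow_eq_zero hV T hTn
  have hNmk : ∀ b : B, N (mk b) = mk (conjRes haB b * b⁻¹) := fun b => by
    show T (mk b) - mk b = _
    rw [mk_mul, mk_inv, sub_eq_add_neg]
    rfl
  -- freeness
  have hfree : ∀ v : V, N v = 0 → v ∈ img N (n - 1) := by
    set O' := O1.subgroupOf L with hO'
    haveI : O'.Normal := Subgroup.normal_subgroupOf_of_le_normalizer hLO
    let ρ0 : L →* AddMonoid.End V :=
      { toFun := fun m => act m (hLB m.2) (hLW m.2)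
        map_one' := act_one_iff _ (hLB (1 : L).2) (hLW (1 : L).2) fun b _ => by simp
        map_mul' := fun m m' => by
          ext v
          obtain ⟨b, rfl⟩ := mk_surj v
          exact congrArg mk (Subtype.ext (by simp [mul_assoc])) }
    have hρ0 : O' ≤ ρ0.ker := fun o ho => by
      rw [MonoidHom.mem_ker]
      exact act_one_iff _ (hLB o.2) (hLW o.2) fun b hb => hOV _ (Subgroup.mem_subgroupOf.1 ho) b hb
    let cL : MulAut L := MulEquiv.ofBijective (conjRes haL) (Finite.injective_iff_bijective.1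
      fun x y h => Subtype.ext (by simpa using congrArg Subtype.val h))
    have hcL : O'.map cL.toMonoidHom = O' := by
      refine Subgroup.eq_of_le_of_card_ge ?_ (Subgroup.card_map_of_injective cL.injective).ge
      rintro _ ⟨o, ho, rfl⟩
      exact Subgroup.mem_subgroupOf.2
        ((Subgroup.mem_normalizer_iff.1 haO _).1 (Subgroup.mem_subgroupOf.1 ho))
    let σ : MulAut (L ⧸ O') := QuotientGroup.congr O' O' cL hcL
    have hσi : ∀ i (m : L), (σ ^ i) (QuotientGroup.mk m) =
        QuotientGroup.mk ⟨a ^ i * (m : G) * (a ^ i)⁻¹,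
          (Subgroup.mem_normalizer_iff.1 (pow_mem haL i) m).1 m.2⟩ := by
      intro i
      induction i with
      | zero =>
        intro m
        simp
      | succ i ih =>
        intro m
        rw [pow_succ', MulAut.mul_apply, ih]
        show σ _ = _
        refine congrArg QuotientGroup.mk (Subtype.ext ?_)
        show a * (a ^ i * (m : G) * (a ^ i)⁻¹) * a⁻¹ = a ^ (i + 1) * (m : G) * (a ^ (i + 1))⁻¹
        rw [pow_succ']
        group
    have hcop : (Nat.card (L ⧸ O')).Coprime p := by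
      refine (hp.coprime_iff_not_dvd.2 fun hd => ?_).symm
      obtain ⟨x, hx⟩ := exists_prime_orderOf_dvd_card' p hd
      obtain ⟨m, rfl⟩ := QuotientGroup.mk'_surjective O' x
      have h1 : m ^ p ∈ O' := by
        rw [← QuotientGroup.eq_one_iff, QuotientGroup.mk_pow, ← hx]
        exact pow_orderOf_eq_one _
      have h2 : m ∈ O' := Subgroup.mem_subgroupOf.2
        (hLcop m m.2 (by simpa using Subgroup.mem_subgroupOf.1 h1))
      rw [show QuotientGroup.mk' O' m = 1 from (QuotientGroup.eq_one_iff m).2 h2, orderOf_one] at hx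
      exact hp.ne_one hx.symm
    obtain ⟨φ, hφ⟩ := exists_trace (p := p) (n := n) (by omega) hV hcop
      (QuotientGroup.lift O' ρ0 hρ0) σ T hTn
      (by
        intro x
        induction x using QuotientGroup.induction_on with
        | H m =>
        ext v
        obtain ⟨b, rfl⟩ := mk_surj v
        exact congrArg mk (Subtype.ext (by simp [cL, mul_assoc])))
      (by
        refine MulEquiv.ext fun x => ?_
        induction x using QuotientGroup.induction_on with
        | H m =>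
        rw [hσi]
        show QuotientGroup.mk _ = QuotientGroup.mk m
        refine QuotientGroup.eq.2 (Subgroup.mem_subgroupOf.2 ?_)
        have hm' : (m : G)⁻¹ ∈ Subgroup.normalizer (O1 : Set G) := hLO (L.inv_mem m.2)
        have h1 := (Subgroup.mem_normalizer_iff.1 hm' _).1 (hA1O han)
        have h2 : a ^ n * ((m : G)⁻¹ * (a ^ n)⁻¹ * m) ∈ O1 :=
          O1.mul_mem (hA1O han) (by simpa [mul_assoc] using O1.inv_mem h1)
        have h3 := (Subgroup.mem_normalizer_iff.1 (hLO m.2) _).1 (O1.mul_mem (O1.inv_mem (hA1O han)) h1)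
        show (a ^ n * (m : G) * (a ^ n)⁻¹)⁻¹ * (m : G) ∈ O1
        have e : (a ^ n * (m : G) * (a ^ n)⁻¹)⁻¹ * (m : G) =
            a ^ n * ((m : G)⁻¹ * (a ^ n)⁻¹ * m) := by group
        rw [e]
        exact h2)
      (by
        intro i hi hi' x hx1 he
        induction x using QuotientGroup.induction_on with
        | H m =>
        refine hx1 ((QuotientGroup.eq_one_iff m).2 (Subgroup.mem_subgroupOf.2
          (hsemi i hi hi' m m.2 ?_)))
        rw [hσi] at he
        have h1 := Subgroup.mem_subgroupOf.1 (QuotientGroup.eq.1 he.symm)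
        have h2 := (Subgroup.mem_normalizer_iff.1 (hLO m.2) _).1 h1
        simpa [mul_assoc] using h2)
      (by
        intro v hv
        obtain ⟨b, rfl⟩ := mk_surj v
        refine (mk_zero b).2 (hfix b b.2 fun m hm => ?_)
        have h1 : mk (conjRes (hLB hm) b) = mk b := hv (QuotientGroup.mk ⟨m, hm⟩)
        have h2 : mk (conjRes (hLB hm) b * b⁻¹) = 0 := by rw [mk_mul, mk_inv, h1, add_neg_cancel]
        simpa [commutatorElement_def] using (mk_zero _).1 h2)
    exact mem_img_of_trace hV T φ hTn hφ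
  -- a generator of a free cyclic submodule
  obtain ⟨b0, hb0⟩ : ∃ b : B, (N ^ (n - 1)) (mk b) ≠ 0 := by
    by_contra hcon
    push Not at hcon
    obtain ⟨b, hb, hbW⟩ := SetLike.not_le_iff_exists.1 hne
    have hz : N ^ (n - 1) = 0 := by
      ext v
      obtain ⟨c, rfl⟩ := mk_surj v
      exact hcon c
    have hker : ∀ v : V, N v = 0 → v = 0 := fun v hv => by
      obtain ⟨u, hu⟩ := hfree v hv
      rw [← hu, hz]
      rfl
    have hall : ∀ i (v : V), (N ^ i) v = 0 → v = 0 := by
      intro i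
      induction i with
      | zero => exact fun v hv => hv
      | succ i ih =>
        intro v hv
        rw [pow_succ'] at hv
        exact ih v (hker _ hv)
    exact hbW ((mk_zero ⟨b, hb⟩).1 (hall (n - 1) _ (hcon ⟨b, hb⟩)))
  -- the part of `W` fixed by `A₁`
  set C1 := W ⊓ Subgroup.centralizer (A1 : Set G) with hC1
  have hC1W : C1 ≤ W := inf_le_left
  have hC1x : ∀ x ∈ A1, ∀ c ∈ C1, x * c * x⁻¹ = c := fun x hx c hc => by
    rw [hc.2 x hx, mul_inv_cancel_right]
  have haC1 : a ∈ Subgroup.normalizer (C1 : Set G) := by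
    refine mem_normalizer_of_map_conj_eq (Subgroup.eq_of_le_of_card_ge (map_conj_le fun c hc => ?_)
      (Subgroup.card_map_of_injective (MulAut.conj a).injective).ge)
    refine ⟨(Subgroup.mem_normalizer_iff.1 haW c).1 hc.1, fun x hx => ?_⟩
    have h1 : a⁻¹ * x * a = x := by rw [mul_assoc, ← hA1a x hx, inv_mul_cancel_left]
    calc x * (a * c * a⁻¹) = a * ((a⁻¹ * x * a) * c) * a⁻¹ := by group
      _ = a * (c * (a⁻¹ * x * a)) * a⁻¹ := by rw [h1, hc.2 x hx]
      _ = a * c * a⁻¹ * x := by group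
  letI : CommGroup C1 :=
    { (inferInstance : Group C1) with
      mul_comm := fun x y => Subtype.ext (hcen x x.2.1 y (hWB y.2.1)) }
  have hC1p : ∀ c : Additive C1, p • c = 0 := fun c => by
    show Additive.ofMul ((Additive.toMul c) ^ p) = 0
    rw [show (Additive.toMul c) ^ p = 1 from Subtype.ext (by
      simpa using hexp _ (hWB (Additive.toMul c).2.1))]
    rfl
  let S : AddMonoid.End (Additive C1) := MonoidHom.toAdditive (conjRes haC1)
  set D := S - 1 with hDdef
  have hSpow : ∀ i (c : Additive C1),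
      (((S ^ i) c).toMul : G) = a ^ i * (c.toMul : G) * (a ^ i)⁻¹ := by
    intro i
    induction i with
    | zero => intro c; simp
    | succ i ih =>
      intro c
      rw [pow_succ']
      show a * (((S ^ i) c).toMul : G) * a⁻¹ = _
      rw [ih, pow_succ']
      group
  have hSn : S ^ n = 1 := by
    refine DFunLike.ext _ _ fun c => ?_
    show (S ^ n) c = c
    apply Additive.toMul.injective
    apply Subtype.ext
    rw [hSpow]
    exact hC1x _ han _ c.toMul.2
  have hDn : D ^ n = 0 := sub_one_pow_eq_zero hC1p S hSn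
  -- the kernel of `D`
  set CT := C1 ⊓ Subgroup.centralizer {a} with hCT
  have hkerD : Nat.card (AddMonoidHom.ker (D : Additive C1 →+ Additive C1)) = Nat.card CT := by
    have hiff : ∀ c : C1, D (Additive.ofMul c) = 0 ↔ (c : G) ∈ Subgroup.centralizer {a} := by
      intro c
      rw [Subgroup.mem_centralizer_singleton_iff]
      show S (Additive.ofMul c) - Additive.ofMul c = 0 ↔ _
      rw [sub_eq_zero]
      constructor
      · intro h
        have h1 : a * (c : G) * a⁻¹ = c := congrArg (fun q : Additive C1 => (q.toMul : G)) h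
        exact (mul_inv_eq_iff_eq_mul.1 h1).symm
      · intro h
        refine congrArg Additive.ofMul (Subtype.ext ?_)
        show a * (c : G) * a⁻¹ = c
        rw [← h, mul_inv_cancel_right]
    exact Nat.card_congr
      { toFun := fun c => ⟨(c.1.toMul : G), c.1.toMul.2, (hiff c.1.toMul).1 c.2⟩
        invFun := fun c => ⟨Additive.ofMul ⟨c.1, c.2.1⟩, (hiff _).2 c.2.2⟩
        left_inv := fun c => rfl
        right_inv := fun c => rfl }
  have hC1card : Nat.card C1 = Nat.card (img D 1) * Nat.card CT := by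
    rw [← hkerD]
    let D' : Additive C1 →+ Additive C1 := D
    have h1 : Nat.card D'.ker * Nat.card D'.range = Nat.card (Additive C1) := by
      rw [← AddSubgroup.index_ker, AddSubgroup.card_mul_index]
    rw [show Nat.card C1 = Nat.card (Additive C1) from rfl, ← h1, mul_comm, img, pow_one]
  have hA1C1 : ∀ x ∈ A1, ∀ c ∈ C1, x * c = c * x := fun x hx c hc => hc.2 x hx
  have himg : Nat.card (img D 1) ≤ n := by
    have hgood : ∀ u ∈ A1 ⊔ C1, ∀ v ∈ A1 ⊔ C1, u * v = v * u := by
      rw [← Subgroup.closure_eq A1, ← Subgroup.closure_eq C1, ← Subgroup.closure_union]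
      refine (ZJ.isGood_closure (e := 0) ?_ fun x _ => pow_zero x).1
      rintro x (hx | hx) y (hy | hy)
      · exact hA1c x hx y hy
      · exact hA1C1 x hx y hy
      · exact (hA1C1 y hy x hx).symm
      · exact hcen x hx.1 y (hWB hy.1)
    have h1 : Nat.card A1 * Nat.card C1 ≤ Nat.card A1 * n * Nat.card CT :=
      (CfsgLib.Products.card_mul_card_le A1 C1).trans (Nat.mul_le_mul
        (hbound _ (sup_le hA1O ((hC1W.trans hWB).trans hBO)) hgood)
        (Subgroup.card_le_of_le (le_inf inf_le_right fun x hx =>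
          Subgroup.mem_centralizer_singleton_iff.2 (hA1a x hx.1).symm)))
    rw [hC1card, mul_assoc] at h1
    exact Nat.le_of_mul_le_mul_right (Nat.le_of_mul_le_mul_left h1 Nat.card_pos) Nat.card_pos
  have hDk : D ^ (k + 1) = 0 := pow_succ_eq_zero_of_card hC1p hDn himg
  -- the pairing
  have hcomm1 : ∀ u ∈ B, ∀ v ∈ B, ⁅u, v⁆ ∈ C1 := by
    intro u hu v hv
    refine ⟨hcomm u hu v hv, fun x hx => ?_⟩
    have h1 := hOV x (hA1O hx) u hu
    have h2 := hOV x (hA1O hx) v hv
    have e1 : x * u * x⁻¹ = ⁅x, u⁆ * u := by simp [commutatorElement_def, mul_assoc]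
    have e2 : x * v * x⁻¹ = ⁅x, v⁆ * v := by simp [commutatorElement_def, mul_assoc]
    have h3 : x * ⁅u, v⁆ * x⁻¹ = ⁅u, v⁆ := by
      calc x * ⁅u, v⁆ * x⁻¹ = ⁅⁅x, u⁆ * u, ⁅x, v⁆ * v⁆ := by
            rw [← e1, ← e2]; simp only [commutatorElement_def]; group
        _ = ⁅u, v⁆ := by
          set w := ⁅x, u⁆
          set w' := ⁅x, v⁆
          have k1 : Commute w u := hcen _ h1 _ hu
          have k2 : Commute w v := hcen _ h1 _ hv
          have k4 : Commute w' u := hcen _ h2 _ hu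
          have k5 : Commute w' v := hcen _ h2 _ hv
          have k6 : Commute w w' := hcen _ h1 _ (hWB h2)
          have s1 : Commute w ((w' * v) * u⁻¹) := (k6.mul_right k2).mul_right k1.inv_right
          have s2 : Commute w' (u * v * u⁻¹) := (k4.mul_right k5).mul_right k4.inv_right
          simp only [commutatorElement_def]
          calc w * u * (w' * v) * (w * u)⁻¹ * (w' * v)⁻¹
              = w * u * ((w' * v) * u⁻¹ * w⁻¹) * v⁻¹ * w'⁻¹ := by group
            _ = w * u * (w⁻¹ * ((w' * v) * u⁻¹)) * v⁻¹ * w'⁻¹ := by rw [s1.inv_left.eq]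
            _ = (w * u * w⁻¹) * w' * v * u⁻¹ * v⁻¹ * w'⁻¹ := by group
            _ = (u * w' * v * u⁻¹) * (v⁻¹ * w'⁻¹) := by rw [k1.eq, mul_inv_cancel_right]; group
            _ = (w' * (u * v * u⁻¹)) * (w'⁻¹ * v⁻¹) := by
              rw [← k4.eq, k5.inv_inv.eq]; group
            _ = u * v * u⁻¹ * (w' * w'⁻¹) * v⁻¹ := by rw [s2.eq]; group
            _ = _ := by group
    exact mul_inv_eq_iff_eq_mul.1 h3
  let f0 : B → B → Additive C1 := fun u v => Additive.ofMul ⟨⁅(u : G), (v : G)⁆, hcomm1 u u.2 v v.2⟩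
  have hcl : ∀ u u' v : G, u ∈ B → u' ∈ B → v ∈ B → ⁅u * u', v⁆ = ⁅u, v⁆ * ⁅u', v⁆ := by
    intro u u' v hu hu' hv
    have h := hcomm u' hu' v hv
    calc ⁅u * u', v⁆ = u * ⁅u', v⁆ * u⁻¹ * ⁅u, v⁆ := by
          simp only [commutatorElement_def]; group
      _ = ⁅u', v⁆ * ⁅u, v⁆ := by rw [← hcen _ h u hu, mul_inv_cancel_right]
      _ = _ := hcen _ h _ (hWB (hcomm u hu v hv))
  have hcr : ∀ u v v' : G, u ∈ B → v ∈ B → v' ∈ B → ⁅u, v * v'⁆ = ⁅u, v⁆ * ⁅u, v'⁆ := by
    intro u v v' hu hv hv'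
    rw [← commutatorElement_inv (v * v') u, hcl v v' u hv hv' hu, mul_inv_rev,
      commutatorElement_inv, commutatorElement_inv]
    exact hcen _ (hcomm u hu v' hv') _ (hWB (hcomm u hu v hv))
  have hcw : ∀ w ∈ W, ∀ v ∈ B, ⁅w, v⁆ = 1 := fun w hw v hv =>
    commutatorElement_eq_one_iff_mul_comm.2 (hcen w hw v hv)
  let f : V → V → Additive C1 := fun u v => f0 (mk_surj u).choose (mk_surj v).choose
  have hfmk : ∀ u v : B, f (mk u) (mk v) = f0 u v := by
    intro u v
    obtain ⟨w, hw, hwe⟩ := mk_eq _ _ (mk_surj (mk u)).choose_spec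
    obtain ⟨w', hw', hwe'⟩ := mk_eq _ _ (mk_surj (mk v)).choose_spec
    refine congrArg Additive.ofMul (Subtype.ext ?_)
    set u' := (mk_surj (mk u)).choose
    set v' := (mk_surj (mk v)).choose
    show ⁅(u' : G), (v' : G)⁆ = ⁅(u : G), (v : G)⁆
    rw [hwe, hwe', hcl _ _ _ (hWB hw) u'.2 (B.mul_mem (hWB hw') v'.2), hcw w hw _
      (B.mul_mem (hWB hw') v'.2), one_mul, hcr _ _ _ u'.2 (hWB hw') v'.2,
      ← commutatorElement_inv w' (u' : G), hcw w' hw' _ u'.2, inv_one, one_mul]
  have hfl : ∀ u u' v, f (u + u') v = f u v + f u' v := by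
    intro u u' v
    obtain ⟨x, rfl⟩ := mk_surj u
    obtain ⟨x', rfl⟩ := mk_surj u'
    obtain ⟨y, rfl⟩ := mk_surj v
    rw [← mk_mul, hfmk, hfmk, hfmk]
    exact congrArg Additive.ofMul (Subtype.ext (hcl _ _ _ x.2 x'.2 y.2))
  have hfr : ∀ u v v', f u (v + v') = f u v + f u v' := by
    intro u v v'
    obtain ⟨x, rfl⟩ := mk_surj u
    obtain ⟨y, rfl⟩ := mk_surj v
    obtain ⟨y', rfl⟩ := mk_surj v'
    rw [← mk_mul, hfmk, hfmk, hfmk]
    exact congrArg Additive.ofMul (Subtype.ext (hcr _ _ _ x.2 y.2 y'.2))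
  have hfT : ∀ u v, S (f u v) = f (T u) (T v) := by
    intro u v
    obtain ⟨x, rfl⟩ := mk_surj u
    obtain ⟨y, rfl⟩ := mk_surj v
    rw [hTmk, hTmk, hfmk, hfmk]
    refine congrArg Additive.ofMul (Subtype.ext ?_)
    show a * ⁅(x : G), (y : G)⁆ * a⁻¹ = ⁅a * (x : G) * a⁻¹, a * (y : G) * a⁻¹⁆
    simp only [commutatorElement_def]
    group
  have hpair := pairing_mem_img f hfl hfr T S hfT hNn
  -- the lifts of the powers
  let β : ℕ → B := fun i => (fun c : B => conjRes haB c * c⁻¹)^[i] b0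
  have hβ : ∀ i, mk (β i) = (N ^ i) (mk b0) := by
    intro i
    induction i with
    | zero => simp [β]
    | succ i ih =>
      rw [pow_succ']
      show _ = N ((N ^ i) (mk b0))
      rw [← ih, hNmk]
      simp only [β, Function.iterate_succ_apply']
  -- the module generated by the images
  have hxW : ∀ x ∈ A1, ∀ b ∈ B, ⁅x, b⁆ ∈ W := fun x hx b hb => hOV x (hA1O hx) b hb
  have hφmul : ∀ x ∈ A1, ∀ u ∈ B, ∀ v ∈ B, ⁅x, u * v⁆ = ⁅x, u⁆ * ⁅x, v⁆ := by
    intro x hx u hu v hv
    calc ⁅x, u * v⁆ = ⁅x, u⁆ * (u * ⁅x, v⁆ * u⁻¹) := by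
          simp only [commutatorElement_def]; group
      _ = _ := by rw [← hcen _ (hxW x hx v hv) u hu, mul_inv_cancel_right]
  have hsym : ∀ x ∈ A1, ∀ y ∈ A1, ∀ b ∈ B,
      x * ⁅y, b⁆ * x⁻¹ * ⁅x, b⁆ = y * ⁅x, b⁆ * y⁻¹ * ⁅y, b⁆ := by
    intro x hx y hy b hb
    calc x * ⁅y, b⁆ * x⁻¹ * ⁅x, b⁆ = (x * y) * b * (x * y)⁻¹ * b⁻¹ := by
          simp only [commutatorElement_def]; group
      _ = (y * x) * b * (y * x)⁻¹ * b⁻¹ := by rw [hA1c x hx y hy]
      _ = _ := by simp only [commutatorElement_def]; group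
  set M0 := Subgroup.closure {g : G | ∃ x ∈ A1, ∃ i : ℕ,
    g = a ^ i * ⁅x, (b0 : G)⁆ * (a ^ i)⁻¹} with hM0
  have hM0W : M0 ≤ W := by
    rw [hM0, Subgroup.closure_le]
    rintro _ ⟨x, hx, i, rfl⟩
    exact (Subgroup.mem_normalizer_iff.1 (pow_mem haW i) _).1 (hxW x hx _ b0.2)
  set M := C1 ⊔ M0 with hM
  have hMW : M ≤ W := sup_le hC1W hM0W
  set A2 := A1 ⊓ Subgroup.centralizer (M : Set G) with hA2
  have hA2M : ∀ y ∈ A1, (∀ x ∈ A1, y * ⁅x, (b0 : G)⁆ = ⁅x, (b0 : G)⁆ * y) → y ∈ A2 := by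
    intro y hy h
    refine ⟨hy, ?_⟩
    have : (M : Subgroup G) ≤ Subgroup.centralizer {y} := by
      refine sup_le (fun c hc => Subgroup.mem_centralizer_singleton_iff.2 (hA1C1 y hy c hc).symm) ?_
      rw [hM0, Subgroup.closure_le]
      rintro _ ⟨x, hx, i, rfl⟩
      rw [SetLike.mem_coe, Subgroup.mem_centralizer_singleton_iff]
      have hai : Commute y (a ^ i) := (Commute.pow_left (hA1a y hy) i).symm
      exact ((hai.mul_right (h x hx)).mul_right hai.inv_right).eq.symm
    exact fun m hm => Subgroup.mem_centralizer_singleton_iff.1 (this hm)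
  -- the index of `A₂`
  have hidx : Nat.card A1 * Nat.card C1 ≤ Nat.card A2 * Nat.card M := by
    set A2' := A2.subgroupOf A1
    set C1' := C1.subgroupOf M
    have hmemM : ∀ y : A1, ⁅(y : G), (b0 : G)⁆ ∈ M := fun y =>
      Subgroup.mem_sup_right (Subgroup.subset_closure ⟨y, y.2, 0, by simp⟩)
    let g : A1 ⧸ A2' → M ⧸ C1' := fun q => QuotientGroup.mk ⟨_, hmemM q.out⟩
    have hg : Function.Injective g := by
      intro q r hqr
      set y := q.out with hy
      set z := r.out with hz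
      have h1 : ⁅(y : G), (b0 : G)⁆⁻¹ * ⁅(z : G), (b0 : G)⁆ ∈ C1 :=
        Subgroup.mem_subgroupOf.1 (QuotientGroup.eq.1 hqr)
      rw [← q.out_eq', ← r.out_eq']
      refine QuotientGroup.eq.2 (Subgroup.mem_subgroupOf.2 ?_)
      refine hA2M _ (A1.mul_mem (A1.inv_mem y.2) z.2) fun x hx => ?_
      set c := ⁅(y : G), (b0 : G)⁆⁻¹ * ⁅(z : G), (b0 : G)⁆ with hc
      set fy := ⁅(y : G), (b0 : G)⁆
      set fx := ⁅x, (b0 : G)⁆
      have hfy : fy ∈ W := hxW _ y.2 _ b0.2
      have hfx : fx ∈ W := hxW x hx _ b0.2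
      have hfz : ⁅(z : G), (b0 : G)⁆ = fy * c := by rw [hc, mul_inv_cancel_left]
      have hWc : ∀ u ∈ W, ∀ v ∈ W, u * v = v * u := fun u hu v hv => hcen u hu v (hWB hv)
      have hwn : ∀ w ∈ A1, ∀ u ∈ W, w * u * w⁻¹ ∈ W := by
        intro w hw u hu
        have e : w * u * w⁻¹ = ⁅w, u⁆ * u := by simp [commutatorElement_def, mul_assoc]
        rw [e]
        exact W.mul_mem (hxW w hw u (hWB hu)) hu
      have e1 := hsym x hx y y.2 b0 b0.2
      have e2 := hsym x hx z z.2 b0 b0.2
      rw [hfz] at e2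
      have e3 : x * (fy * c) * x⁻¹ = (x * fy * x⁻¹) * c := by
        calc x * (fy * c) * x⁻¹ = (x * fy * x⁻¹) * (x * c * x⁻¹) := by group
          _ = _ := by rw [hC1x x hx c h1]
      rw [e3] at e2
      have hxy : x * fy * x⁻¹ ∈ W := hwn x hx fy hfy
      have e4 : (z : G) * fx * (z : G)⁻¹ = (y : G) * fx * (y : G)⁻¹ := by
        refine mul_right_cancel (b := fy * c) ?_
        calc (z : G) * fx * (z : G)⁻¹ * (fy * c)
            = x * fy * x⁻¹ * c * fx := e2.symm
          _ = x * fy * x⁻¹ * fx * c := by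
            rw [mul_assoc, hWc c h1.1 fx hfx, ← mul_assoc]
          _ = (y : G) * fx * (y : G)⁻¹ * fy * c := by rw [e1]
          _ = _ := by rw [mul_assoc]
      calc (y : G)⁻¹ * (z : G) * fx = (y : G)⁻¹ * ((z : G) * fx * (z : G)⁻¹) * (z : G) := by group
        _ = (y : G)⁻¹ * ((y : G) * fx * (y : G)⁻¹) * (z : G) := by rw [e4]
        _ = fx * ((y : G)⁻¹ * (z : G)) := by group
    have h1 := Nat.card_le_card_of_injective g hg
    have h2 : Nat.card A1 = Nat.card (A1 ⧸ A2') * Nat.card A2 := by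
      rw [Subgroup.card_eq_card_quotient_mul_card_subgroup A2',
        Nat.card_congr (Subgroup.subgroupOfEquivOfLe (inf_le_left : A2 ≤ A1)).toEquiv]
    have h3 : Nat.card M = Nat.card (M ⧸ C1') * Nat.card C1 := by
      rw [Subgroup.card_eq_card_quotient_mul_card_subgroup C1',
        Nat.card_congr (Subgroup.subgroupOfEquivOfLe (le_sup_left : C1 ≤ M)).toEquiv]
    rw [h2, h3]
    calc Nat.card (A1 ⧸ A2') * Nat.card A2 * Nat.card C1
        = Nat.card A2 * (Nat.card (A1 ⧸ A2') * Nat.card C1) := by ring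
      _ ≤ _ := Nat.mul_le_mul_left _ (Nat.mul_le_mul_right _ h1)
  -- the images of the lifts under `A₂`
  have hφ1 : ∀ y ∈ A2, ⁅y, (b0 : G)⁆ ∈ C1 := by
    intro y hy
    refine ⟨hxW y hy.1 _ b0.2, fun x hx => ?_⟩
    have e := hsym x hx y hy.1 b0 b0.2
    have e2 : y * ⁅x, (b0 : G)⁆ * y⁻¹ = ⁅x, (b0 : G)⁆ := by
      rw [← hy.2 _ (Subgroup.mem_sup_right (Subgroup.subset_closure ⟨x, hx, 0, by simp⟩)),
        mul_inv_cancel_right]
    rw [e2, hcen _ (hxW x hx _ b0.2) _ (hWB (hxW y hy.1 _ b0.2))] at e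
    exact mul_inv_eq_iff_eq_mul.1 (mul_right_cancel e)
  have hφi : ∀ y (hy : y ∈ A2) (i : ℕ),
      ⁅y, (β i : G)⁆ = (((D ^ i) (Additive.ofMul ⟨_, hφ1 y hy⟩)).toMul : G) := by
    intro y hy i
    induction i with
    | zero => simp [β]
    | succ i ih =>
      have e : (β (i + 1) : G) = a * (β i : G) * a⁻¹ * (β i : G)⁻¹ := by
        simp only [β, Function.iterate_succ_apply', Subgroup.coe_mul, coe_conjRes, InvMemClass.coe_inv]
      have hb : a * (β i : G) * a⁻¹ ∈ B := (conjRes haB (β i)).2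
      have hinv : ⁅y, (β i : G)⁻¹⁆ = ⁅y, (β i : G)⁆⁻¹ := by
        refine eq_inv_of_mul_eq_one_left ?_
        rw [← hφmul y hy.1 _ (B.inv_mem (β i).2) _ (β i).2, inv_mul_cancel, commutatorElement_one_right]
      have hconj : ⁅y, a * (β i : G) * a⁻¹⁆ = a * ⁅y, (β i : G)⁆ * a⁻¹ := by
        have hya : a⁻¹ * y * a = y := by rw [mul_assoc, ← hA1a y hy.1, inv_mul_cancel_left]
        calc ⁅y, a * (β i : G) * a⁻¹⁆ = a * ⁅a⁻¹ * y * a, (β i : G)⁆ * a⁻¹ := by
              simp only [commutatorElement_def]; group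
          _ = _ := by rw [hya]
      rw [e, hφmul y hy.1 _ hb _ (B.inv_mem (β i).2), hinv, hconj, ih, pow_succ']
      show _ = ((S ((D ^ i) _) - (D ^ i) _).toMul : G)
      simp [S, sub_eq_add_neg]
      rfl
  -- choose the tail
  have hnodd : n % 2 = 1 := by
    rw [hn]
    exact Nat.odd_iff.1 ((hp.odd_of_ne_two (by omega)).pow)
  obtain ⟨j, hjk, hjn, hjf, hjgain⟩ : ∃ j, (∀ i, j ≤ i → D ^ i = 0) ∧ j < n ∧
      (∀ i l, j ≤ i → j ≤ l → i < l → ∀ c, c ∈ img D (i + l + 1 - n) → c = 0) ∧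
      p ^ (k + 1) < p ^ (n - j) * Nat.card (img D 1) := by
    have h5 : 5 ≤ n := le_trans hp5 hnp
    have h3k : 2 * k + 3 ≤ n ∧ 3 * k + 2 ≤ n := by
      rw [hn]
      clear_value n
      have : ∀ k, 1 ≤ k → 3 * k + 2 ≤ p ^ k := by
        intro k hk
        induction k, hk using Nat.le_induction with
        | base => simpa using hp5
        | succ k hk ih =>
          rw [pow_succ]
          nlinarith
      have := this k hk
      omega
    by_cases hD1 : D = 0
    · refine ⟨(n - 1) / 2, fun i hi => ?_, by omega, fun i l hi hl hil c hc => ?_, ?_⟩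
      · rw [hD1, zero_pow (by omega)]
      · obtain ⟨u, rfl⟩ := hc
        rw [hD1, zero_pow (by omega)]
        rfl
      · have h1 : k + 1 < n - (n - 1) / 2 := by omega
        calc p ^ (k + 1) < p ^ (n - (n - 1) / 2) := Nat.pow_lt_pow_right hp.one_lt h1
          _ ≤ _ := Nat.le_mul_of_pos_right _ Nat.card_pos
    · have hpos : p ≤ Nat.card (img D 1) := by
        obtain ⟨c, hc⟩ : ∃ c, D c ≠ 0 := by
          by_contra hcon
          push Not at hcon
          exact hD1 (DFunLike.ext _ _ fun c => hcon c)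
        have hord : addOrderOf (D c) = p := addOrderOf_eq_prime (hC1p _) hc
        rw [← hord, ← Nat.card_zmultiples]
        refine Nat.card_mono (Set.toFinite _) ?_
        exact AddSubgroup.zmultiples_le.2 ⟨c, by rw [pow_one]; rfl⟩
      have hz : ∀ i, k + 1 ≤ i → D ^ i = 0 := fun i hi => by
        rw [← Nat.add_sub_cancel' hi, pow_add, hDk, zero_mul]
      refine ⟨(n + k) / 2, fun i hi => hz i (by omega), by omega, fun i l hi hl hil c hc => ?_, ?_⟩
      · obtain ⟨u, rfl⟩ := hc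
        rw [hz _ (by omega)]
        rfl
      · have h1 : k + 1 ≤ n - (n + k) / 2 := by omega
        calc p ^ (k + 1) ≤ p ^ (n - (n + k) / 2) := Nat.pow_le_pow_right hp.pos h1
          _ < p ^ (n - (n + k) / 2) * p := lt_mul_of_one_lt_right (pow_pos hp.pos _) hp.one_lt
          _ ≤ _ := Nat.mul_le_mul_left _ hpos
  -- the abelian subgroup
  set E := Subgroup.closure ((M : Set G) ∪ {g : G | ∃ i, j ≤ i ∧ (β i : G) = g}) with hE
  have hlift : ∀ i l, j ≤ i → j ≤ l → (β i : G) * (β l : G) = (β l : G) * (β i : G) := by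
    intro i l hi hl
    rcases lt_trichotomy i l with h | rfl | h
    rotate_left
    · rfl
    rotate_left
    all_goals
      rw [← commutatorElement_eq_one_iff_mul_comm]
    · have h1 := hjf i l hi hl h _ (hpair i l (mk b0) (mk b0))
      rw [← hβ, ← hβ, hfmk] at h1
      exact congrArg (fun q : Additive C1 => (q.toMul : G)) h1
    · have h1 := hjf l i hl hi h _ (hpair l i (mk b0) (mk b0))
      rw [← hβ, ← hβ, hfmk] at h1
      have h2 : ⁅(β l : G), (β i : G)⁆ = 1 := congrArg (fun q : Additive C1 => (q.toMul : G)) h1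
      rw [← commutatorElement_inv, h2, inv_one]
  have hA2β : ∀ y ∈ A2, ∀ i, j ≤ i → y * (β i : G) = (β i : G) * y := by
    intro y hy i hi
    rw [← commutatorElement_eq_one_iff_mul_comm, hφi y hy i, hjk i hi]
    rfl
  set gens := (A2 : Set G) ∪ ((M : Set G) ∪ {g : G | ∃ i, j ≤ i ∧ (β i : G) = g}) with hgens
  have hgood : ∀ u ∈ Subgroup.closure gens, ∀ v ∈ Subgroup.closure gens, u * v = v * u := by
    refine (ZJ.isGood_closure (e := 0) ?_ fun x _ => pow_zero x).1
    rintro x (hx | hx | ⟨i, hi, rfl⟩) y (hy | hy | ⟨l, hl, rfl⟩)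
    · exact hA1c x hx.1 y hy.1
    · exact (hx.2 y hy).symm
    · exact hA2β x hx l hl
    · exact hy.2 x hx
    · exact hcen x (hMW hx) y (hWB (hMW hy))
    · exact hcen x (hMW hx) _ (β l).2
    · exact (hA2β y hy i hi).symm
    · exact (hcen y (hMW hy) _ (β i).2).symm
    · exact hlift i l hi hl
  have hEB : E ≤ B := by
    rw [hE, Subgroup.closure_le]
    rintro g (hg | ⟨i, _, rfl⟩)
    · exact hWB (hMW hg)
    · exact (β i).2
  have hsup : A2 ⊔ E = Subgroup.closure gens := by
    rw [hgens, Subgroup.closure_union (A2 : Set G), Subgroup.closure_eq]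
  have hX : Nat.card ↥(A2 ⊔ E) ≤ Nat.card A1 * n :=
    hbound _ (sup_le (inf_le_left.trans hA1O) (hEB.trans hBO)) (by rw [hsup]; exact hgood)
  -- the image of `E`
  let πE : E →* B ⧸ W' := (QuotientGroup.mk' W').comp (Subgroup.inclusion hEB)
  let imE : AddSubgroup V := Subgroup.toAddSubgroup πE.range
  have hEge : Nat.card M * p ^ (n - j) ≤ Nat.card E := by
    have h1 : p ^ (n - j) ≤ Nat.card imE := pow_le_card_of_mem hV hNn hb0 j imE fun i hi => by
      rw [← hβ]
      exact ⟨⟨β i, Subgroup.subset_closure (Or.inr ⟨i, hi, rfl⟩)⟩, rfl⟩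
    have h2 : Nat.card M ≤ Nat.card πE.ker := by
      refine Nat.card_le_card_of_injective (fun m : M => (⟨⟨m, Subgroup.subset_closure (Or.inl m.2)⟩,
        (QuotientGroup.eq_one_iff _).2 (Subgroup.mem_subgroupOf.2 (hMW m.2))⟩ : πE.ker)) ?_
      intro x y h
      exact Subtype.ext (congrArg (fun q : πE.ker => ((q : E) : G)) h)
    rw [← πE.ker.card_mul_index, Subgroup.index_ker]
    exact Nat.mul_le_mul h2 h1
  have hinter : Nat.card ↥(A2 ⊓ E) ≤ p * Nat.card CT := by
    let πI : ↥(A2 ⊓ E) →* B ⧸ W' :=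
      (QuotientGroup.mk' W').comp (Subgroup.inclusion (inf_le_right.trans hEB))
    rw [← πI.ker.card_mul_index, Subgroup.index_ker, mul_comm]
    refine Nat.mul_le_mul ?_ ?_
    · have h1 : ∀ q ∈ πI.range,
          Additive.ofMul q ∈ AddSubgroup.zmultiples ((N ^ (n - 1)) (mk b0)) := by
        rintro _ ⟨⟨e, he2, heE⟩, rfl⟩
        refine mem_zmultiples_of_tail hV hNn hb0 j (mk ⟨e, hEB heE⟩) ?_ ?_
        · have : ∀ g (hg : g ∈ E), mk ⟨g, hEB hg⟩ ∈
              AddSubgroup.closure {w | ∃ i, j ≤ i ∧ (N ^ i) (mk b0) = w} := by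
            intro g hg
            induction hg using Subgroup.closure_induction with
            | mem g hg =>
              rcases hg with hg | ⟨i, hi, rfl⟩
              · rw [(mk_zero ⟨g, hEB (Subgroup.subset_closure (Or.inl hg))⟩).2 (hMW hg)]
                exact zero_mem _
              · exact AddSubgroup.subset_closure ⟨i, hi, (hβ i).symm⟩
            | one => exact zero_mem _
            | mul x y hx hy ihx ihy =>
              rw [show (⟨x * y, hEB (E.mul_mem hx hy)⟩ : B) = ⟨x, hEB hx⟩ * ⟨y, hEB hy⟩ from rfl, mk_mul]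
              exact add_mem ihx ihy
            | inv x hx ihx =>
              rw [show (⟨x⁻¹, hEB (E.inv_mem hx)⟩ : B) = (⟨x, hEB hx⟩ : B)⁻¹ from rfl, mk_inv]
              exact neg_mem ihx
          exact this e heE
        · rw [hNmk]
          refine (mk_zero _).2 ?_
          simp only [Subgroup.coe_mul, coe_conjRes, InvMemClass.coe_inv]
          rw [hA1a e he2.1, mul_inv_cancel_right, mul_inv_cancel]
          exact W.one_mem
      refine le_trans (Nat.card_le_card_of_injective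
        (fun q : πI.range => (⟨_, h1 q q.2⟩ : AddSubgroup.zmultiples ((N ^ (n - 1)) (mk b0))))
        fun q r h => Subtype.ext (Additive.ofMul.injective
          (congrArg (fun z : AddSubgroup.zmultiples ((N ^ (n - 1)) (mk b0)) => (z : V)) h))) ?_
      rw [Nat.card_zmultiples]
      exact Nat.le_of_dvd hp.pos (addOrderOf_dvd_of_nsmul_eq_zero (hV _))
    · refine Nat.card_le_card_of_injective (fun q : πI.ker => (⟨((q : ↥(A2 ⊓ E)) : G), ?_⟩ : CT)) ?_
      · obtain ⟨⟨e, he2, heE⟩, hq⟩ := q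
        refine ⟨⟨Subgroup.mem_subgroupOf.1 ((QuotientGroup.eq_one_iff (N := W')
          (Subgroup.inclusion (inf_le_right.trans hEB) ⟨e, he2, heE⟩)).1 hq), fun x hx =>
          hA1c x hx e he2.1⟩, Subgroup.mem_centralizer_singleton_iff.2 (hA1a e he2.1).symm⟩
      · intro q r h
        exact Subtype.ext (Subtype.ext (congrArg (fun z : CT => (z : G)) h))
  -- the final count
  have hcount := (CfsgLib.Products.card_mul_card_le A2 E).trans (Nat.mul_le_mul hX hinter)
  have h1 : Nat.card A2 * (Nat.card M * p ^ (n - j)) * Nat.card C1 ≤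
      Nat.card A1 * n * (p * Nat.card CT) * Nat.card C1 :=
    Nat.mul_le_mul_right _ ((Nat.mul_le_mul_left _ hEge).trans hcount)
  have h2 : Nat.card A2 * Nat.card M * (p ^ (n - j) * Nat.card (img D 1) * Nat.card CT) ≤
      Nat.card A2 * Nat.card M * (p ^ (k + 1) * Nat.card CT) := by
    calc Nat.card A2 * Nat.card M * (p ^ (n - j) * Nat.card (img D 1) * Nat.card CT)
        = Nat.card A2 * (Nat.card M * p ^ (n - j)) * Nat.card C1 := by rw [hC1card]; ring
      _ ≤ Nat.card A1 * n * (p * Nat.card CT) * Nat.card C1 := h1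
      _ = Nat.card A1 * Nat.card C1 * (n * (p * Nat.card CT)) := by ring
      _ ≤ Nat.card A2 * Nat.card M * (n * (p * Nat.card CT)) := Nat.mul_le_mul_right _ hidx
      _ = _ := by rw [hn, pow_succ]; ring
  exact absurd (Nat.le_of_mul_le_mul_right
    (Nat.le_of_mul_le_mul_left h2 (Nat.mul_pos Nat.card_pos Nat.card_pos)) Nat.card_pos) hjgain.not_ge

end CfsgLib.ThompsonFive
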