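import Cfsg.Agent.Lib.ThompsonFive.Core
import Cfsg.Agent.Lib.ZJ.Complement
import Cfsg.Agent.Lib.PResidual

/-!
For `p ≥ 5` the largest abelian subgroups of a Sylow subgroup lie in the `p`-core, when the
`p`-core is self-centralizing and the group modulo it has an abelian normal `p'`-subgroup of
`p`-power index.
-/

set_option autoImplicit false
set_option linter.unusedSectionVars false
set_option maxHeartbeats 400000

namespace CfsgLib.ThompsonFive

open CfsgLib CfsgLib.Local Cfsg Finset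
open scoped commutatorElement

universe u

/-- An abelian `p`-group of fixed-point-free operators on an abelian group without elements of
order `p` is cyclic. -/
theorem isCyclic_of_fpf {p : ℕ} [Fact p.Prime] {K : Type*} [AddCommGroup K] [Nontrivial K]
    (hKp : ∀ y : K, p • y = 0 → y = 0) {Q : Type u} [Group Q] [Finite Q] [IsMulCommutative Q]
    (hQ : IsPGroup p Q) (θ : Q →* AddMonoid.End K)
    (hfpf : ∀ q, q ≠ 1 → ∀ y, θ q y = y → y = 0) : IsCyclic Q := by
  classical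
  have hp : p.Prime := Fact.out
  by_contra hcyc
  obtain ⟨r, hr, u, v, hu, hv, huv⟩ := CfsgLib.exists_two_generators_of_not_cyclic hcyc
  obtain rfl : r = p := by
    obtain ⟨j, hj⟩ := IsPGroup.iff_orderOf.1 hQ u
    rw [hu] at hj
    exact (Nat.prime_dvd_prime_iff_eq hr hp).1 (hr.dvd_of_dvd_pow (n := j) (hj ▸ dvd_rfl))
  have hgeom : ∀ q : Q, q ≠ 1 → q ^ r = 1 → ∑ i ∈ range r, θ q ^ i = 0 := by
    intro q hq hqr
    refine DFunLike.ext _ _ fun y => hfpf q hq _ ?_
    have h : (θ q - 1) * ∑ i ∈ range r, θ q ^ i = 0 := by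
      rw [mul_geom_sum, ← map_pow, hqr, map_one, sub_self]
    exact sub_eq_zero.1 (DFunLike.congr_fun h y)
  have hur : u ^ r = 1 := hu ▸ pow_orderOf_eq_one u
  have hvr : v ^ r = 1 := hv ▸ pow_orderOf_eq_one v
  have hcomm : ∀ x y : Q, x * y = y * x := fun x y => IsMulCommutative.is_comm.comm x y
  have hrow : ∀ i : ℕ, ∑ j ∈ range r, θ (u ^ (i * j) * v ^ j) = 0 := by
    intro i
    have hne : u ^ i * v ≠ 1 := fun e => huv (by
      rw [← inv_eq_of_mul_eq_one_right e]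
      exact inv_mem (pow_mem (Subgroup.mem_zpowers u) i))
    have hr1 : (u ^ i * v) ^ r = 1 := by
      rw [(show Commute (u ^ i) v from hcomm _ _).mul_pow, ← pow_mul, mul_comm, pow_mul, hur, one_pow,
        one_mul, hvr]
    rw [← hgeom _ hne hr1]
    refine sum_congr rfl fun j _ => ?_
    rw [← map_pow, (show Commute (u ^ i) v from hcomm _ _).mul_pow, ← pow_mul]
  have htot : ∑ j ∈ range r, ∑ i ∈ range r, θ (u ^ (i * j) * v ^ j) = 0 := by
    rw [sum_comm]
    exact sum_eq_zero fun i _ => hrow i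
  rw [sum_eq_single 0] at htot
  · obtain ⟨y, hy⟩ := exists_ne (0 : K)
    refine hy (hKp y ?_)
    have h := DFunLike.congr_fun htot y
    simpa using h
  · intro j hj hj0
    have hj' : j < r := mem_range.1 hj
    have hne : u ^ j ≠ 1 := fun e => by
      have := Nat.le_of_dvd (Nat.pos_of_ne_zero hj0) (orderOf_dvd_of_pow_eq_one e)
      omega
    have hs : ∑ i ∈ range r, θ (u ^ (i * j) * v ^ j) = (∑ i ∈ range r, θ (u ^ j) ^ i) * θ (v ^ j) := by
      rw [sum_mul]
      refine sum_congr rfl fun i _ => ?_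
      rw [← map_pow, ← map_mul, ← pow_mul, mul_comm i j]
    rw [hs, hgeom _ hne (by rw [← pow_mul, mul_comm, pow_mul, hur, one_pow]), zero_mul]
  · intro h
    exact absurd (mem_range.2 hr.pos) h

variable {G : Type u} [Group G] [Finite G] {p : ℕ} [Fact p.Prime]

/-- The largest abelian subgroups of a Sylow subgroup lie in the `p`-core. -/
theorem le_pCore5 (hp5 : 5 ≤ p) {M : Subgroup G} [M.Normal]
    (hcen : Subgroup.centralizer (pCore p G : Set G) ≤ pCore p G) (hOM : pCore p G ≤ M)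
    (habel : ∀ m ∈ M, ∀ n ∈ M, ⁅m, n⁆ ∈ pCore p G)
    (hcop : ∀ m ∈ M, ∀ k : ℕ, m ^ p ^ k ∈ pCore p G → m ∈ pCore p G)
    (hindex : ∀ g : G, ∃ k : ℕ, g ^ p ^ k ∈ M)
    (P : Sylow p G) {A : Subgroup G} (hA : A ∈ ZJ.goodMax 0 (P : Subgroup G)) : A ≤ pCore p G := by
  classical
  have hp : p.Prime := Fact.out
  by_contra hAO
  obtain ⟨hAP, ⟨hAc, -⟩, hAmax⟩ := hA
  set O := pCore p G with hO
  set π := QuotientGroup.mk' O with hπ
  have hs : Function.Surjective π := QuotientGroup.mk'_surjective O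
  have hπ1 : ∀ x : G, π x = 1 ↔ x ∈ O := fun x => QuotientGroup.eq_one_iff x
  set Mb := M.map π with hMb
  haveI hMbn : Mb.Normal := (inferInstance : M.Normal).map π hs
  have hMbc : ∀ x ∈ Mb, ∀ y ∈ Mb, x * y = y * x := by
    rintro _ ⟨m, hm, rfl⟩ _ ⟨n, hn, rfl⟩
    rw [← commutatorElement_eq_one_iff_mul_comm, ← map_commutatorElement, hπ1]
    exact habel m hm n hn
  have hMbp : ∀ x ∈ Mb, ∀ j : ℕ, x ^ p ^ j = 1 → x = 1 := by
    rintro _ ⟨m, hm, rfl⟩ j hj
    rw [← map_pow, hπ1] at hj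
    exact (hπ1 m).2 (hcop m hm j hj)
  set Ab := A.map π with hAb
  have hAbc : ∀ x ∈ Ab, ∀ y ∈ Ab, x * y = y * x := by
    rintro _ ⟨m, hm, rfl⟩ _ ⟨n, hn, rfl⟩
    rw [← map_mul, hAc m hm n hn, map_mul]
  have hAp : IsPGroup p A := P.2.to_le hAP
  have hAbp : IsPGroup p Ab := hAp.map π
  -- `A` acts non-trivially on `M / O`
  have hact : ∃ x ∈ Mb, ∃ α ∈ Ab, α * x ≠ x * α := by
    by_contra hcon
    push Not at hcon
    set C := Subgroup.centralizer (Mb : Set (G ⧸ O)) with hC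
    haveI : C.Normal := Subgroup.normal_centralizer
    have hMC : Mb ≤ C := fun x hx y hy => hMbc y hy x hx
    haveI hnil : Group.IsNilpotent C := by
      haveI : (Mb.subgroupOf C).Normal := Subgroup.normal_subgroupOf
      haveI : Group.IsNilpotent (C ⧸ Mb.subgroupOf C) := by
        refine IsPGroup.isNilpotent (p := p) ?_
        intro x
        obtain ⟨y, rfl⟩ := QuotientGroup.mk'_surjective _ x
        obtain ⟨g, hg⟩ := hs (y : G ⧸ O)
        obtain ⟨k, hk⟩ := hindex g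
        refine ⟨k, ?_⟩
        rw [← map_pow]
        refine (QuotientGroup.eq_one_iff _).2 (Subgroup.mem_subgroupOf.2 ?_)
        rw [SubmonoidClass.coe_pow, ← hg, ← map_pow]
        exact ⟨_, hk, rfl⟩
      refine Subgroup.isNilpotent_of_ker_le_center (QuotientGroup.mk' (Mb.subgroupOf C)) ?_
      rw [QuotientGroup.ker_mk']
      exact fun y hy => Subgroup.mem_center_iff.2 fun z => Subtype.ext (z.2 _ hy).symm
    have hAC : Ab ≤ C := fun α hα x hx => (hcon x hx α hα).symm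
    obtain ⟨T, hT⟩ := (hAbp.comap_subtype (K := C)).exists_le_sylow
    haveI : (T : Subgroup C).Normal :=
      T.normal_of_normalizerCondition Group.normalizerCondition_of_isNilpotent
    refine hAO fun x hx => (hπ1 x).1 ?_
    have h1 := map_pCore_le p C ⟨⟨π x, hAC ⟨x, hx, rfl⟩⟩,
      CfsgLib.le_pCore T.2 (hT (Subgroup.mem_subgroupOf.2 ⟨x, hx, rfl⟩)), rfl⟩
    rw [ZJ.pCore_quotient_pCore_eq_bot, Subgroup.mem_bot] at h1
    exact h1
  -- a minimal `A`-invariant subgroup not centralized by `A`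
  obtain ⟨Kb, ⟨hKM, hAK, hKne⟩, hmin⟩ := Set.exists_min_image
    {K : Subgroup (G ⧸ O) | K ≤ Mb ∧ Ab ≤ Subgroup.normalizer (K : Set (G ⧸ O)) ∧
      ∃ x ∈ K, ∃ α ∈ Ab, α * x ≠ x * α} (fun K => Nat.card K) (Set.toFinite _)
    ⟨Mb, le_rfl, Subgroup.le_normalizer_of_normal .., hact⟩
  have hKc : ∀ x ∈ Kb, ∀ y ∈ Kb, x * y = y * x := fun x hx y hy => hMbc x (hKM hx) y (hKM hy)
  have hKp : ∀ x ∈ Kb, ∀ j : ℕ, x ^ p ^ j = 1 → x = 1 := fun x hx => hMbp x (hKM hx)
  have hconjK : ∀ α ∈ Ab, ∀ x ∈ Kb, α * x * α⁻¹ ∈ Kb := fun α hα x hx =>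
    (Subgroup.mem_normalizer_iff.1 (hAK hα) x).1 hx
  have hsmall : ∀ K' : Subgroup (G ⧸ O), K' ≤ Kb → K' ≠ Kb →
      (∀ α ∈ Ab, ∀ x ∈ K', α * x * α⁻¹ ∈ K') → ∀ x ∈ K', ∀ α ∈ Ab, α * x = x * α := by
    intro K' hle hne hinv x hx α hα
    by_contra hcon
    exact hne (Subgroup.eq_of_le_of_card_ge hle (hmin K'
      ⟨hle.trans hKM, fun β hβ => mem_normalizer_of_conj (hinv β hβ), x, hx, α, hα, hcon⟩))
  -- an element of `A` centralizes `Kb` or fixes no non-trivial element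
  have hfpf : ∀ α ∈ Ab, (∃ x ∈ Kb, α * x ≠ x * α) → ∀ x ∈ Kb, α * x = x * α → x = 1 := by
    rintro α hα ⟨x₀, hx₀, hne₀⟩
    have hαinv : ∀ β ∈ Ab, β⁻¹ * α * β = α := fun β hβ => by
      rw [mul_assoc, hAbc α hα β hβ, inv_mul_cancel_left]
    let ψ : Kb →* Kb := MonoidHom.mk' (fun y => ⟨α * (y : G ⧸ O) * α⁻¹ * (y : G ⧸ O)⁻¹,
        Kb.mul_mem (hconjK α hα y y.2) (Kb.inv_mem y.2)⟩) fun y z => Subtype.ext (by
      show α * ((y : G ⧸ O) * z) * α⁻¹ * ((y : G ⧸ O) * z)⁻¹ =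
        α * y * α⁻¹ * (y : G ⧸ O)⁻¹ * (α * z * α⁻¹ * (z : G ⧸ O)⁻¹)
      calc α * ((y : G ⧸ O) * z) * α⁻¹ * ((y : G ⧸ O) * z)⁻¹
          = α * y * α⁻¹ * ((α * z * α⁻¹ * (z : G ⧸ O)⁻¹) * (y : G ⧸ O)⁻¹) := by group
        _ = α * y * α⁻¹ * ((y : G ⧸ O)⁻¹ * (α * z * α⁻¹ * (z : G ⧸ O)⁻¹)) := by
          rw [hKc _ (Kb.mul_mem (hconjK α hα z z.2) (Kb.inv_mem z.2)) _ (Kb.inv_mem y.2)]
        _ = _ := by group)
    have hψ : ψ.range.map Kb.subtype = Kb := by
      by_contra hne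
      have hinv : ∀ β ∈ Ab, ∀ z ∈ ψ.range.map Kb.subtype, β * z * β⁻¹ ∈ ψ.range.map Kb.subtype := by
        rintro β hβ _ ⟨_, ⟨y, rfl⟩, rfl⟩
        refine ⟨_, ⟨⟨β * y * β⁻¹, hconjK β hβ y y.2⟩, rfl⟩, ?_⟩
        show α * (β * y * β⁻¹) * α⁻¹ * (β * y * β⁻¹)⁻¹ = β * (α * y * α⁻¹ * (y : G ⧸ O)⁻¹) * β⁻¹
        calc α * (β * y * β⁻¹) * α⁻¹ * (β * y * β⁻¹)⁻¹
            = β * ((β⁻¹ * α * β) * y * (β⁻¹ * α * β)⁻¹ * (y : G ⧸ O)⁻¹) * β⁻¹ := by group
          _ = _ := by rw [hαinv β hβ]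
      have hc := hsmall _ (Subgroup.map_subtype_le _) hne hinv
      set d := α * x₀ * α⁻¹ * x₀⁻¹ with hd
      have hdmem : d ∈ ψ.range.map Kb.subtype := ⟨_, ⟨⟨x₀, hx₀⟩, rfl⟩, rfl⟩
      have h1 : α * d * α⁻¹ = d := by rw [hc d hdmem α hα, mul_inv_cancel_right]
      have e := CfsgLib.AbelianOffender.conj_pow_eq (g := α) (v := x₀) (d := d)
        (by rw [hd]; group) h1 (orderOf α)
      rw [pow_orderOf_eq_one, one_mul, inv_one, mul_one, eq_comm, mul_eq_right] at e
      obtain ⟨j, hj⟩ := IsPGroup.iff_orderOf.1 hAbp ⟨α, hα⟩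
      rw [← Subgroup.orderOf_coe] at hj
      rw [show orderOf α = p ^ j from hj] at e
      have hd1 : d = 1 := hKp d (Subgroup.map_subtype_le _ hdmem) j e
      rw [hd, mul_inv_eq_one, mul_inv_eq_iff_eq_mul] at hd1
      exact hne₀ hd1
    have hsur : Function.Surjective ψ := by
      rw [← MonoidHom.range_eq_top]
      exact Subgroup.map_injective Kb.subtype_injective (by
        rw [hψ, ← MonoidHom.range_eq_map, Subgroup.range_subtype])
    intro x hx hcomm
    have h1 : ψ ⟨x, hx⟩ = ψ 1 := by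
      rw [map_one]
      refine Subtype.ext ?_
      show α * x * α⁻¹ * x⁻¹ = 1
      rw [hcomm, mul_inv_cancel_right, mul_inv_cancel]
    exact congrArg Subtype.val (Finite.injective_iff_surjective.2 hsur h1)
  -- the kernel of the action
  set C := Subgroup.centralizer (Kb : Set (G ⧸ O)) with hC
  set A1 := A ⊓ C.comap π with hA1
  set A1' := A1.subgroupOf A with hA1'
  haveI : IsMulCommutative A := ⟨⟨fun x y => Subtype.ext (hAc x x.2 y y.2)⟩⟩
  haveI : A1'.Normal := ⟨fun n hn g => by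
    rw [show g * n * g⁻¹ = n by rw [IsMulCommutative.is_comm.comm g n, mul_inv_cancel_right]]
    exact hn⟩
  letI : CommGroup Kb :=
    { (inferInstance : Group Kb) with mul_comm := fun x y => Subtype.ext (hKc x x.2 y y.2) }
  haveI : Nontrivial (Additive Kb) := by
    obtain ⟨x, hx, α, -, hne⟩ := hKne
    refine ⟨⟨Additive.ofMul ⟨x, hx⟩, 0, fun e => hne ?_⟩⟩
    have h1 : x = 1 := congrArg (fun q : Additive Kb => ((Additive.toMul q : Kb) : G ⧸ O)) e
    rw [h1, mul_one, one_mul]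
  have hnK : ∀ x : A, π x ∈ Subgroup.normalizer (Kb : Set (G ⧸ O)) := fun x => hAK ⟨x, x.2, rfl⟩
  let θ0 : A →* AddMonoid.End (Additive Kb) :=
    { toFun := fun x => MonoidHom.toAdditive (conjRes (hnK x))
      map_one' := by
        refine DFunLike.ext _ _ fun y => Additive.toMul.injective (Subtype.ext ?_)
        show π ((1 : A) : G) * _ * (π ((1 : A) : G))⁻¹ = _
        simp
      map_mul' := fun x y => by
        refine DFunLike.ext _ _ fun z => Additive.toMul.injective (Subtype.ext ?_)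
        show π ((x * y : A) : G) * ((Additive.toMul z : Kb) : G ⧸ O) * (π ((x * y : A) : G))⁻¹ = _
        show _ = π (x : G) * (π (y : G) * ((Additive.toMul z : Kb) : G ⧸ O) * (π (y : G))⁻¹) * (π (x : G))⁻¹
        rw [Subgroup.coe_mul, map_mul]
        group }
  have hθker : A1' ≤ θ0.ker := fun x hx => by
    refine DFunLike.ext _ _ fun y => Additive.toMul.injective (Subtype.ext ?_)
    show π (x : G) * _ * (π (x : G))⁻¹ = _
    rw [← (Subgroup.mem_subgroupOf.1 hx).2 _ (Additive.toMul y).2, mul_inv_cancel_right]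
    rfl
  haveI : IsCyclic (A ⧸ A1') := by
    haveI : IsMulCommutative (A ⧸ A1') := ⟨⟨fun x y => by
      induction x using QuotientGroup.induction_on with
      | H x =>
      induction y using QuotientGroup.induction_on with
      | H y => rw [← QuotientGroup.mk_mul, ← QuotientGroup.mk_mul, IsMulCommutative.is_comm.comm x y]⟩⟩
    refine isCyclic_of_fpf (p := p) (K := Additive Kb) ?_ (hAp.to_quotient A1')
      (QuotientGroup.lift A1' θ0 hθker) ?_
    · intro y hy
      refine congrArg Additive.ofMul (Subtype.ext ?_) (a₁ := Additive.toMul y) (a₂ := 1)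
      have h2 : (Additive.toMul y) ^ p = 1 := congrArg Additive.toMul hy
      exact hKp _ (Additive.toMul y).2 1 (by rw [pow_one]; exact congrArg Subtype.val h2)
    · intro q hq y hy
      induction q using QuotientGroup.induction_on with
      | H x =>
      refine congrArg Additive.ofMul (Subtype.ext ?_) (a₁ := Additive.toMul y) (a₂ := 1)
      refine hfpf (π x) ⟨x, x.2, rfl⟩ ?_ _ (Additive.toMul y).2 ?_
      · by_contra hcon
        push Not at hcon
        exact hq ((QuotientGroup.eq_one_iff x).2 (Subgroup.mem_subgroupOf.2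
          ⟨x.2, fun z hz => (hcon z hz).symm⟩))
      · exact mul_inv_eq_iff_eq_mul.1
          (congrArg (fun z : Additive Kb => ((Additive.toMul z : Kb) : G ⧸ O)) hy)
  -- a generator modulo the kernel
  obtain ⟨ab, hab⟩ := IsCyclic.exists_generator (α := A ⧸ A1')
  obtain ⟨a, rfl⟩ := QuotientGroup.mk'_surjective A1' ab
  obtain ⟨k, hk⟩ := (hAp.to_quotient A1').exists_card_eq
  have hord : orderOf (QuotientGroup.mk' A1' a) = p ^ k := by
    rw [orderOf_eq_card_of_forall_mem_zpowers hab, hk]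
  have hout : ∀ i, 0 < i → i < p ^ k → (a : G) ^ i ∉ A1 := by
    intro i hi hik hmem
    have h : QuotientGroup.mk' A1' a ^ i = 1 := by
      rw [← map_pow]
      exact (QuotientGroup.eq_one_iff _).2 (Subgroup.mem_subgroupOf.2 (by simpa using hmem))
    have := Nat.le_of_dvd hi (hord ▸ orderOf_dvd_of_pow_eq_one h)
    omega
  have hk1 : 1 ≤ k := by
    by_contra hk0
    obtain ⟨x, hx, α, ⟨g, hg, rfl⟩, hne⟩ := hKne
    have h1 : (⟨g, hg⟩ : A) ∈ A1' := by
      haveI : Subsingleton (A ⧸ A1') := (Nat.card_eq_one_iff_unique.1 (by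
        rw [hk, show k = 0 by omega, pow_zero])).1
      exact (QuotientGroup.eq_one_iff _).1 (Subsingleton.elim _ 1)
    exact hne ((Subgroup.mem_subgroupOf.1 h1).2 x hx).symm
  have hcard : Nat.card A = Nat.card A1 * p ^ k := by
    rw [Subgroup.card_eq_card_quotient_mul_card_subgroup A1', hk,
      Nat.card_congr (Subgroup.subgroupOfEquivOfLe (inf_le_left : A1 ≤ A)).toEquiv, mul_comm]
  -- the configuration
  set A1b := A1.map π with hA1b
  have hA1bA : A1b ≤ Ab := Subgroup.map_mono inf_le_left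
  have hA1bC : ∀ α ∈ A1b, ∀ x ∈ Kb, x * α = α * x := by
    rintro _ ⟨g, hg, rfl⟩ x hx
    exact hg.2 x hx
  set O1 := A1b.comap π with hO1
  set L := (Kb ⊔ A1b).comap π with hL
  have hnA1 : Kb ≤ Subgroup.normalizer (A1b : Set (G ⧸ O)) := fun x hx =>
    mem_normalizer_of_conj fun α hα => by rwa [hA1bC α hα x hx, mul_inv_cancel_right]
  have hA1Kn : A1b ≤ Subgroup.normalizer (Kb : Set (G ⧸ O)) := hA1bA.trans hAK
  have hdisj : ∀ x ∈ Kb, x ∈ A1b → x = 1 := by
    intro x hx hx'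
    obtain ⟨j, hj⟩ := hAbp ⟨x, hA1bA hx'⟩
    exact hKp x hx j (congrArg Subtype.val hj)
  have hO1p : IsPGroup p O1 := (hAbp.to_le hA1bA).comap_of_ker_isPGroup π (by
    rw [QuotientGroup.ker_mk']; exact isPGroup_pCore p)
  have hA1O : A1 ≤ O1 := fun x hx => Subgroup.mem_map_of_mem π hx
  have hOP : O ≤ (P : Subgroup G) := pCore_le_sylow P
  have hO1P : O1 ≤ (P : Subgroup G) := by
    rw [hO1, hA1b, Subgroup.comap_map_eq, QuotientGroup.ker_mk']
    exact sup_le (inf_le_left.trans hAP) hOP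
  have haAb : π (a : G) ∈ Ab := ⟨a, a.2, rfl⟩
  have haA1 : π (a : G) ∈ Subgroup.normalizer (A1b : Set (G ⧸ O)) := mem_normalizer_of_conj fun α hα => by
    rwa [hAbc _ haAb α (hA1bA hα), mul_inv_cancel_right]
  refine core hp5 hk1 (O1 := O1) (L := L) (A1 := A1) (a := (a : G)) hO1p hA1O
    (fun x hx y hy => hAc x hx.1 y hy.1) (fun x hx => hAc a a.2 x hx.1) ?_ ?_ ?_ ?_ ?_ ?_ ?_ ?_ ?_
  · have h : QuotientGroup.mk' A1' (a ^ p ^ k) = 1 := by rw [map_pow, ← hord, pow_orderOf_eq_one]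
    simpa using Subgroup.mem_subgroupOf.1 ((QuotientGroup.eq_one_iff _).1 h)
  · exact Subgroup.comap_mono le_sup_right
  · rw [hO1, ← Subgroup.comap_normalizer_eq_of_surjective A1b hs]
    exact Subgroup.comap_mono (sup_le hnA1 Subgroup.le_normalizer)
  · rw [hL, ← Subgroup.comap_normalizer_eq_of_surjective _ hs]
    refine mem_normalizer_of_conj fun y hy => ?_
    obtain ⟨x, hx, α, hα, rfl⟩ := mem_sup_of_le_normalizer hA1Kn hy
    rw [show π (a : G) * (x * α) * (π (a : G))⁻¹ =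
      (π (a : G) * x * (π (a : G))⁻¹) * (π (a : G) * α * (π (a : G))⁻¹) by group]
    exact Subgroup.mul_mem_sup (hconjK _ haAb x hx) ((Subgroup.mem_normalizer_iff.1 haA1 α).1 hα)
  · rw [hO1, ← Subgroup.comap_normalizer_eq_of_surjective A1b hs]
    exact haA1
  · intro m hm hmp
    obtain ⟨x, hx, α, hα, he⟩ := mem_sup_of_le_normalizer hA1Kn (Subgroup.mem_comap.1 hm)
    rw [hO1, Subgroup.mem_comap, map_pow, ← he,
      (show Commute x α from hA1bC α hα x hx).mul_pow] at hmp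
    have h1 : x ^ p ∈ A1b := by simpa using A1b.mul_mem hmp (A1b.inv_mem (pow_mem hα p))
    have h2 : x = 1 := hKp x hx 1 (by rw [pow_one]; exact hdisj _ (pow_mem hx p) h1)
    rw [hO1, Subgroup.mem_comap, ← he, h2, one_mul]
    exact hα
  · intro i hi hik m hm hmem
    obtain ⟨x, hx, α, hα, he⟩ := mem_sup_of_le_normalizer hA1Kn (Subgroup.mem_comap.1 hm)
    set β := π (a : G) ^ i with hβ
    have hβA : β ∈ Ab := pow_mem haAb i
    have h1 : β * (x * α) * β⁻¹ * (x * α)⁻¹ ∈ A1b := by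
      rw [he, hβ]
      simpa [map_mul, map_pow, map_inv] using (Subgroup.mem_comap.1 hmem)
    have h2 : β * (x * α) * β⁻¹ * (x * α)⁻¹ = β * x * β⁻¹ * x⁻¹ := by
      calc β * (x * α) * β⁻¹ * (x * α)⁻¹ = β * x * ((α * β⁻¹) * α⁻¹) * x⁻¹ := by group
        _ = β * x * ((β⁻¹ * α) * α⁻¹) * x⁻¹ := by
          rw [hAbc α (hA1bA hα) β⁻¹ (Ab.inv_mem hβA)]
        _ = _ := by group
    rw [h2] at h1
    have h3 : β * x * β⁻¹ * x⁻¹ = 1 := hdisj _ (Kb.mul_mem (hconjK β hβA x hx) (Kb.inv_mem hx)) h1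
    have hne : ∃ z ∈ Kb, β * z ≠ z * β := by
      by_contra hcon
      push Not at hcon
      refine hout i hi hik ⟨pow_mem a.2 i, ?_⟩
      show π ((a : G) ^ i) ∈ C
      rw [map_pow]
      exact fun z hz => (hcon z hz).symm
    have h4 : x = 1 := hfpf β hβA hne x hx (mul_inv_eq_iff_eq_mul.1 (mul_inv_eq_one.1 h3))
    rw [hO1, Subgroup.mem_comap, ← he, h4, one_mul]
    exact hα
  · obtain ⟨x, hx, α, -, hne⟩ := hKne
    obtain ⟨g, rfl⟩ := hs x
    obtain ⟨j, hj⟩ := CfsgLib.PResidual.exists_pow_coprime (p := p) g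
    have hgx : π (g ^ p ^ j) ≠ 1 := fun e => by
      rw [map_pow] at e
      exact hne (by rw [hKp _ hx j e, mul_one, one_mul])
    obtain ⟨v, hv, hvne⟩ : ∃ v ∈ O, g ^ p ^ j * v ≠ v * g ^ p ^ j := by
      by_contra hcon
      push Not at hcon
      exact hgx ((hπ1 _).2 (hcen fun v hv => (hcon v hv).symm))
    refine ⟨g ^ p ^ j, ?_, hj, v, ?_, hvne⟩
    · rw [hL, Subgroup.mem_comap, map_pow]
      exact Subgroup.mem_sup_left (pow_mem hx _)
    · rw [hO1, Subgroup.mem_comap, (hπ1 v).2 hv]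
      exact A1b.one_mem
  · intro X hX hXc
    rw [← hcard]
    exact hAmax X (hX.trans hO1P) ⟨hXc, fun x _ => pow_zero x⟩

end CfsgLib.ThompsonFive
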