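import Cfsg.Agent.Lib.ThompsonComplementJ
import Cfsg.Agent.Lib.ThompsonFive.Offender

/-!
For `p ≥ 5` a finite group has a normal `p`-complement as soon as the normalizer of the Thompson
subgroup of abelian subgroups of largest order of a Sylow subgroup has one.
-/

set_option autoImplicit false
set_option linter.unusedSectionVars false
set_option maxHeartbeats 400000

namespace CfsgLib.ThompsonComplement

open CfsgLib CfsgLib.Local Cfsg Subgroup
open scoped commutatorElement Pointwise

universe u
variable {G : Type u} [Group G]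

/-- The normalizer of the Thompson subgroup has a normal `p`-complement. -/
def CritJ (p : ℕ) (T : Subgroup G) : Prop :=
  HasNormalPComplement p (Subgroup.normalizer (ZJ.thompsonJ 0 T : Set G))

theorem CritJ.conj [Finite G] {p : ℕ} [Fact p.Prime] {T : Subgroup G} (h : CritJ p T) (g : G) :
    CritJ p (T.map (MulAut.conj g).toMonoidHom) := by
  show HasNormalPComplement p _
  rw [J_map _ _ (MulAut.conj g).injective.injOn, ← Subgroup.map_equiv_normalizer_eq]
  exact ZJ.hasNormalPComplement_map _ h

theorem CritJ.sub [Finite G] {p : ℕ} [Fact p.Prime] {X : Subgroup G} {R : Subgroup X}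
    (h : CritJ p (R.map X.subtype)) : CritJ p R := by
  refine ZJ.hasNormalPComplement_of_isPGroup_map X.subtype_injective (ZJ.hasNormalPComplement_of_le ?_ h)
  rw [J_map _ _ X.subtype_injective.injOn]
  exact Subgroup.le_normalizer_map _

theorem hasNormalPComplement_of_normalizerJ {G : Type u} [Group G] [Finite G] {p : ℕ} [Fact p.Prime]
    (hp5 : 5 ≤ p) (P : Sylow p G) (hC : CritJ p (P : Subgroup G)) :
    HasNormalPComplement p G := by
  induction hn : Nat.card G using Nat.strong_induction_on generalizing G with
  | h n ih =>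
    subst hn
    have hp : p.Prime := Fact.out
    have hconj : ∀ T : Sylow p G, CritJ p (T : Subgroup G) := by
      intro T
      obtain ⟨g, hg⟩ := MulAction.exists_smul_eq G P T
      rw [← hg, Sylow.coe_subgroup_smul, Subgroup.pointwise_smul_def]
      exact hC.conj g
    have hsub : ∀ (X : Subgroup G) (R : Sylow p X), X ≠ ⊤ →
        CritJ p ((R : Subgroup X).map X.subtype) → HasNormalPComplement p X := fun X R hX h =>
      ih _ (CfsgLib.card_lt_of_lt_top hX.lt_top) R h.sub rfl
    by_contra hG
    set bad : Set (Subgroup G) := {Q | IsPGroup p Q ∧ Q ≠ ⊥ ∧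
      ¬ HasNormalPComplement p (Subgroup.normalizer (Q : Set G))} with hbad
    let f : Subgroup G → ℕ := fun Q => p ^ (Nat.card (Subgroup.normalizer (Q : Set G))).factorization p
    have hne : bad.Nonempty := by
      by_contra h
      rw [Set.not_nonempty_iff_eq_empty] at h
      refine hG (hasNormalPComplement_of_local fun Q hQ hQ0 => ?_)
      by_contra h'
      exact (Set.eq_empty_iff_forall_notMem.mp h) Q ⟨hQ, hQ0, h'⟩
    obtain ⟨H₁, hH₁, hmax₁⟩ := Set.exists_max_image bad f (Set.toFinite _) hne
    obtain ⟨H, ⟨hH, hfH⟩, hmax₂⟩ := Set.exists_max_image {Q | Q ∈ bad ∧ f Q = f H₁}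
      (fun Q => Nat.card Q) (Set.toFinite _) ⟨H₁, hH₁, rfl⟩
    -- the maximal bad subgroup is normal
    have hNtop : Subgroup.normalizer (H : Set G) = ⊤ := by
      by_contra hNne
      set N := Subgroup.normalizer (H : Set G) with hNdef
      obtain ⟨R⟩ := (inferInstance : Nonempty (Sylow p N))
      set R' := (R : Subgroup N).map N.subtype with hR'
      have hR'p : IsPGroup p R' := R.2.map _
      obtain ⟨T, hT⟩ := hR'p.exists_le_sylow
      by_cases heq : R' = (T : Subgroup G)
      · exact hH.2.2 (hsub N R hNne (by rw [← hR', heq]; exact hconj T))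
      have hHR : H ≤ R' := by
        have h1 : H.subgroupOf N ≤ (R : Subgroup N) := by
          haveI : (H.subgroupOf N).Normal := Subgroup.normal_in_normalizer
          exact (CfsgLib.le_pCore (N := H.subgroupOf N) hH.1.comap_subtype).trans (pCore_le_sylow R)
        intro x hx
        exact ⟨⟨x, Subgroup.le_normalizer hx⟩, h1 hx, rfl⟩
      have hR'0 : R' ≠ ⊥ := fun e => hH.2.1 (le_bot_iff.mp (e ▸ hHR))
      have hlt := CfsgLib.inf_normalizer_lt T hT heq
      have hXgood : ∀ X : Subgroup G, IsPGroup p X → X ≠ ⊥ →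
          Subgroup.normalizer (R' : Set G) ≤ Subgroup.normalizer (X : Set G) →
          HasNormalPComplement p (Subgroup.normalizer (X : Set G)) := by
        intro X hXp hX0 hNX
        by_contra hXb
        have hle := hmax₁ X ⟨hXp, hX0, hXb⟩
        rw [← hfH] at hle
        have h1 : Nat.card ↥((T : Subgroup G) ⊓ Subgroup.normalizer (R' : Set G)) ≤ f X :=
          ZJ.card_le_pPart (inf_le_right.trans hNX) (T.2.to_le inf_le_left)
        have h2 : Nat.card R' = f H := by
          rw [hR', Subgroup.card_map_of_injective N.subtype_injective]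
          exact R.card_eq_multiplicity
        have h3 : Nat.card R' < Nat.card ↥((T : Subgroup G) ⊓ Subgroup.normalizer (R' : Set G)) :=
          lt_of_le_of_ne (Subgroup.card_le_of_le hlt.le) fun h =>
            hlt.ne (Subgroup.eq_of_le_of_card_ge hlt.le h.ge)
        omega
      exact hH.2.2 (hsub N R hNne
        (hXgood _ (hR'p.to_le (ZJ.thompsonJ_le 0 R')) (J_ne_bot (Or.inl rfl) hR'p hR'0) (normalizer_le_normalizer_J R')))
    haveI hHn : H.Normal := Subgroup.normalizer_eq_top_iff.mp hNtop
    set O := pCore p G with hO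
    have hOp : IsPGroup p O := isPGroup_pCore p
    have hHO : H ≤ O := CfsgLib.le_pCore hH.1
    have hfull : f H = p ^ (Nat.card G).factorization p := by
      simp only [f, hNtop, Subgroup.card_top]
    have hgoodX : ∀ X : Subgroup G, IsPGroup p X → O < X → ∀ T : Sylow p G,
        (T : Subgroup G) ≤ Subgroup.normalizer (X : Set G) →
        HasNormalPComplement p (Subgroup.normalizer (X : Set G)) := by
      intro X hXp hOX T hT
      by_contra hXb
      have hX0 : X ≠ ⊥ := fun e => (bot_le (a := O)).not_gt (e ▸ hOX)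
      have h1 : f H ≤ f X := by
        rw [hfull, ← T.card_eq_multiplicity]
        exact ZJ.card_le_pPart hT T.2
      have h2 : f X = f H₁ := le_antisymm (hmax₁ X ⟨hXp, hX0, hXb⟩) (hfH ▸ h1)
      have h3 := hmax₂ X ⟨⟨hXp, hX0, hXb⟩, h2⟩
      exact (lt_of_lt_of_le (lt_of_le_of_lt hHO hOX) le_rfl).ne
        (Subgroup.eq_of_le_of_card_ge (hHO.trans hOX.le) h3)
    -- `O_{p'}(G) = 1`
    have hK1 : pPrimeCore p G = ⊥ := by
      by_contra hne'
      set K := pPrimeCore p G with hK
      let π := QuotientGroup.mk' K
      have hs : Function.Surjective π := QuotientGroup.mk'_surjective K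
      have hlt : Nat.card (G ⧸ K) < Nat.card G := by
        rw [Subgroup.card_eq_card_quotient_mul_card_subgroup K]
        haveI : Nontrivial K := (Subgroup.nontrivial_iff_ne_bot K).mpr hne'
        exact lt_mul_of_one_lt_right Nat.card_pos Finite.one_lt_card
      have hdisj : ∀ x ∈ (P : Subgroup G), x ∈ K → x = 1 := by
        intro x hx hxK
        obtain ⟨k, hk⟩ := P.2.exists_card_eq
        exact Subgroup.disjoint_def.mp (Subgroup.disjoint_of_coprime_natCard (by
          rw [hk]; exact ((card_pPrimeCore_coprime p).pow_right k).symm)) hx hxK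
      have hinj : Set.InjOn π ((P : Subgroup G) : Set G) := by
        intro x hx y hy hxy
        have h1 : x⁻¹ * y ∈ K := QuotientGroup.eq.mp hxy
        exact inv_mul_eq_one.mp (hdisj _ (mul_mem (inv_mem hx) hy) h1)
      have hlift : ∀ Z : Subgroup G, Z ≤ (P : Subgroup G) →
          Subgroup.normalizer ((Z.map π : Subgroup (G ⧸ K)) : Set (G ⧸ K)) ≤
            (Subgroup.normalizer (Z : Set G)).map π := by
        intro Z hZP y hy
        obtain ⟨g, rfl⟩ := hs y
        have hZp : IsPGroup p Z := P.2.to_le hZP
        haveI : Group.IsNilpotent Z := hZp.isNilpotent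
        have hcop : (Nat.card Z).Coprime (Nat.card K) := by
          obtain ⟨k, hk⟩ := hZp.exists_card_eq
          rw [hk]
          exact ((card_pPrimeCore_coprime p).pow_right k).symm
        have hka : ∀ a ∈ Z, g⁻¹ * a * g ∈ K ⊔ Z := by
          intro a ha
          have h1 : π (g⁻¹ * a * g) ∈ Z.map π := by
            refine (Subgroup.mem_normalizer_iff.mp hy _).mpr ?_
            rw [← map_inv, ← map_mul, ← map_mul]
            exact ⟨a, ha, congrArg π (by group)⟩
          have h2 : g⁻¹ * a * g ∈ (Z.map π).comap π := h1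
          rwa [Subgroup.comap_map_eq, QuotientGroup.ker_mk', sup_comm] at h2
        obtain ⟨w, hw, hwA⟩ := coprime_key_normalize hcop (Or.inl inferInstance) (A := Z) (W := K)
          (fun a _ => by rw [Subgroup.normalizer_eq_top_iff.2 inferInstance]; exact Subgroup.mem_top a) hka
        refine ⟨g * w, mem_normalizer_of_map_conj_eq (Subgroup.eq_of_le_of_card_ge (map_conj_le hwA)
          (Subgroup.card_map_of_injective (MulAut.conj (g * w)).injective).ge), ?_⟩
        rw [map_mul, show π w = 1 from (QuotientGroup.eq_one_iff w).mpr hw, mul_one]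
      have hq := ih _ hlt (P.mapSurjective hs) (by
          show HasNormalPComplement p (Subgroup.normalizer
            (ZJ.thompsonJ 0 ((P : Subgroup G).map π) : Set (G ⧸ K)))
          rw [J_map _ _ hinj]
          exact ZJ.hasNormalPComplement_of_le (hlift _ (ZJ.thompsonJ_le 0 _))
            (ZJ.hasNormalPComplement_map π hC)) rfl
      refine hG ?_
      rw [hasNormalPComplement_iff] at hq ⊢
      have hb : pPrimeCore p (G ⧸ K) = ⊥ := pPrimeCore_quotient_eq_bot p
      intro x
      obtain ⟨k, hk⟩ := hq (QuotientGroup.mk x)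
      refine ⟨k, ?_⟩
      rw [← QuotientGroup.mk_pow, QuotientGroup.eq_one_iff, hb, Subgroup.mem_bot] at hk
      exact hk
    -- `G / O_p(G)` has a normal `p`-complement
    have hPO : (P : Subgroup G) ≠ O := by
      intro h
      refine hG ?_
      have h1 : Subgroup.normalizer (ZJ.thompsonJ 0 (P : Subgroup G) : Set G) = ⊤ := by
        rw [eq_top_iff]
        refine le_trans ?_ (normalizer_le_normalizer_J _)
        rw [h]
        exact (Subgroup.normalizer_eq_top_iff.mpr inferInstance).ge
      have h2 := hC
      unfold CritJ at h2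
      rw [h1] at h2
      exact hasNormalPComplement_of_equiv Subgroup.topEquiv h2
    let π := QuotientGroup.mk' O
    have hs : Function.Surjective π := QuotientGroup.mk'_surjective O
    have hπ1 : ∀ x ∈ O, π x = 1 := fun x hx => (QuotientGroup.eq_one_iff x).mpr hx
    have hO0 : O ≠ ⊥ := fun e => hH.2.1 (le_bot_iff.mp (e ▸ hHO))
    have hltQ : Nat.card (G ⧸ O) < Nat.card G := by
      rw [Subgroup.card_eq_card_quotient_mul_card_subgroup O]
      haveI : Nontrivial O := (Subgroup.nontrivial_iff_ne_bot O).mpr hO0
      exact lt_mul_of_one_lt_right Nat.card_pos Finite.one_lt_card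
    have hQnpc : HasNormalPComplement p (G ⧸ O) := by
      refine ih _ hltQ (P.mapSurjective hs) ?_ rfl
      set T : Subgroup (G ⧸ O) := (P.mapSurjective hs : Subgroup (G ⧸ O)) with hT
      have hTp : IsPGroup p T := (P.mapSurjective hs).2
      have hTmap : T = (P : Subgroup G).map π := rfl
      have hT0 : T ≠ ⊥ := fun e => hPO (le_antisymm (by
        rw [hTmap, Subgroup.map_eq_bot_iff, QuotientGroup.ker_mk'] at e
        exact e) (pCore_le_sylow P))
      have hgood : ∀ Z : Subgroup (G ⧸ O), Z ≤ T → Z ≠ ⊥ →
          Subgroup.normalizer (T : Set (G ⧸ O)) ≤ Subgroup.normalizer (Z : Set (G ⧸ O)) →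
          HasNormalPComplement p (Subgroup.normalizer (Z : Set (G ⧸ O))) := by
        intro Z hZT hZ0 hNZ
        set X := Z.comap π with hX
        have hOX : O < X := by
          refine lt_of_le_of_ne (fun x hx => ?_) fun h => hZ0 ?_
          · rw [hX, Subgroup.mem_comap, hπ1 x hx]
            exact one_mem _
          · refine (Subgroup.eq_bot_iff_forall _).mpr fun y hy => ?_
            obtain ⟨g, rfl⟩ := hs y
            exact hπ1 g (h.ge hy)
        have hXp : IsPGroup p X := (hTp.to_le hZT).comap_of_ker_isPGroup π (by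
          rw [QuotientGroup.ker_mk']; exact isPGroup_pCore p)
        have hNX : Subgroup.normalizer (X : Set G) = (Subgroup.normalizer (Z : Set (G ⧸ O))).comap π :=
          (Subgroup.comap_normalizer_eq_of_surjective Z hs).symm
        have hPX : (P : Subgroup G) ≤ Subgroup.normalizer (X : Set G) := by
          rw [hNX]
          exact fun x hx => (Subgroup.le_normalizer.trans hNZ) (Subgroup.mem_map_of_mem π hx)
        have h1 := hgoodX X hXp hOX P hPX
        rw [hNX] at h1
        have h2 := ZJ.hasNormalPComplement_map π h1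
        rwa [Subgroup.map_comap_eq_self_of_surjective hs] at h2
      exact hgood _ (ZJ.thompsonJ_le 0 T) (J_ne_bot (Or.inl rfl) hTp hT0) (normalizer_le_normalizer_J T)
    set Kb := pPrimeCore p (G ⧸ O) with hKb
    set M := Kb.comap π with hM
    haveI hMn : M.Normal := Subgroup.normal_comap _
    have hOM : O ≤ M := fun x hx => by
      rw [hM, Subgroup.mem_comap, hπ1 x hx]; exact one_mem _
    have hQp : IsPGroup p ((G ⧸ O) ⧸ Kb) := isPGroup_quotient_of_hasNormalPComplement hQnpc
    have hKcop : ∀ m ∈ M, ∀ k : ℕ, m ^ p ^ k ∈ O → m ∈ O := by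
      intro m hm k hmp
      have hmK : π m ∈ Kb := Subgroup.mem_comap.mp hm
      have h1 : (orderOf (π m)).Coprime p :=
        Nat.Coprime.coprime_dvd_left (Subgroup.orderOf_dvd_natCard Kb hmK)
          (card_pPrimeCore_coprime (G := G ⧸ O) p)
      have h2 : (π m) ^ p ^ k = 1 := by
        rw [← map_pow]
        exact hπ1 _ hmp
      have h3 : π m = 1 := orderOf_eq_one_iff.mp
        (Nat.eq_one_of_dvd_coprimes (h1.pow_right k) dvd_rfl (orderOf_dvd_of_pow_eq_one h2))
      exact (QuotientGroup.eq_one_iff (N := O) m).mp h3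
    have hpel : ∀ m ∈ M, (∃ k, m ^ p ^ k = 1) → m ∈ O := fun m hm ⟨k, hk⟩ =>
      hKcop m hm k (by rw [hk]; exact one_mem _)
    have hMq : ∀ g : G, ∃ k : ℕ, g ^ p ^ k ∈ M := by
      intro g
      obtain ⟨k, hk⟩ := hQp (QuotientGroup.mk (π g))
      refine ⟨k, ?_⟩
      show π (g ^ p ^ k) ∈ Kb
      rw [map_pow]
      exact (QuotientGroup.eq_one_iff _).mp (by rw [QuotientGroup.mk_pow]; exact hk)
    -- `C(O) ≤ O`
    have hCO : Subgroup.centralizer (O : Set G) ≤ O := by
      set C := Subgroup.centralizer (O : Set G) with hCdef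
      haveI : C.Normal := Subgroup.normal_centralizer
      set Y := M ⊓ C with hY
      haveI : Y.Normal := inferInstance
      obtain ⟨R⟩ := (inferInstance : Nonempty (Sylow p Y))
      have hRc : ∀ r ∈ (R : Subgroup Y), ∀ y : Y, y * r = r * y := by
        intro r hr y
        have hrO : (r : G) ∈ O := hpel _ r.2.1 (by
          obtain ⟨k, hk⟩ := R.2 ⟨r, hr⟩
          exact ⟨k, congrArg (fun q : (R : Subgroup Y) => ((q : Y) : G)) hk⟩)
        exact Subtype.ext (y.2.2 (r : G) hrO).symm
      have hYnpc : HasNormalPComplement p Y :=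
        hasNormalPComplement_of_normalizer_le_centralizer R fun y _ r hr => (hRc r hr y).symm
      have hYK : pPrimeCore p Y = ⊥ := by
        refine (Subgroup.map_eq_bot_iff_of_injective _ Y.subtype_injective).mp ?_
        exact le_bot_iff.mp ((map_pPrimeCore_le p Y).trans hK1.le)
      have hYp : IsPGroup p Y := by
        have h1 := isPGroup_quotient_of_hasNormalPComplement hYnpc
        intro y
        obtain ⟨k, hk⟩ := h1 (QuotientGroup.mk y)
        refine ⟨k, ?_⟩
        rwa [← QuotientGroup.mk_pow, QuotientGroup.eq_one_iff, hYK, Subgroup.mem_bot] at hk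
      refine CfsgLib.le_pCore (N := C) ?_
      intro c
      obtain ⟨k, hk⟩ := hMq (c : G)
      obtain ⟨l, hl⟩ := hYp ⟨_, (⟨hk, pow_mem c.2 _⟩ : (c : G) ^ p ^ k ∈ Y)⟩
      exact ⟨k + l, Subtype.ext (by simpa [pow_add, pow_mul] using congrArg Subtype.val hl)⟩
    -- no proper non-trivial `P`-invariant subgroup between `O` and `M`
    have hinv : ∀ L : Subgroup G, O ≤ L → L ≤ M → L ≠ M →
        (P : Subgroup G) ≤ Subgroup.normalizer (L : Set G) → L = O := by
      intro L hOL hLM hne hPL
      set X := L ⊔ (P : Subgroup G) with hX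
      have hXtop : X ≠ ⊤ := by
        intro h
        refine hne (le_antisymm hLM fun x hx => ?_)
        have hx' : x ∈ X := by rw [h]; exact Subgroup.mem_top x
        rw [hX] at hx'
        obtain ⟨l, hl, u, hu, rfl⟩ := mem_sup_of_le_normalizer hPL hx'
        have huM : u ∈ M := by
          have h2 := M.mul_mem (M.inv_mem (hLM hl)) hx
          simpa using h2
        obtain ⟨k, hk⟩ := P.2 ⟨u, hu⟩
        exact mul_mem hl (hOL (hpel u huM ⟨k, congrArg Subtype.val hk⟩))
      have hXnpc : HasNormalPComplement p X := hsub X (P.subtype le_sup_right) hXtop (by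
        rw [Sylow.coe_subtype, Subgroup.subgroupOf_map_subtype, inf_eq_left.mpr le_sup_right]
        exact hC)
      set K := (pPrimeCore p X).map X.subtype with hK
      have hOX : O ≤ X := hOL.trans le_sup_left
      have hKC : K ≤ O := by
        refine le_trans ?_ hCO
        rintro _ ⟨k, hk, rfl⟩ o ho
        haveI : (O.subgroupOf X).Normal := Subgroup.normal_subgroupOf
        have hd : Disjoint (O.subgroupOf X) (pPrimeCore p X) := by
          have hOp' : IsPGroup p (O.subgroupOf X) := hOp.comap_subtype (K := X)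
          obtain ⟨j, hj⟩ := hOp'.exists_card_eq
          exact Subgroup.disjoint_of_coprime_natCard (by
            rw [hj]; exact ((card_pPrimeCore_coprime p).pow_right j).symm)
        exact congrArg Subtype.val (Subgroup.commute_of_normal_of_disjoint (O.subgroupOf X)
          (pPrimeCore p X) inferInstance inferInstance hd ⟨o, hOX ho⟩ k ho hk)
      refine le_antisymm (fun x hx => hpel x (hLM hx) ?_) hOL
      have h1 := isPGroup_quotient_of_hasNormalPComplement hXnpc
      obtain ⟨k, hk⟩ := h1 (QuotientGroup.mk (⟨x, Subgroup.mem_sup_left hx⟩ : X))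
      rw [← QuotientGroup.mk_pow, QuotientGroup.eq_one_iff] at hk
      obtain ⟨l, hl⟩ := hOp ⟨_, hKC (Subgroup.mem_map_of_mem X.subtype hk)⟩
      exact ⟨k + l, by simpa [pow_add, pow_mul] using congrArg Subtype.val hl⟩
    have hpre : ∀ Lb : Subgroup (G ⧸ O), Lb ≤ Kb →
        (P : Subgroup G).map π ≤ Subgroup.normalizer (Lb : Set (G ⧸ O)) → Lb = Kb ∨ Lb = ⊥ := by
      intro Lb hle hPn
      by_cases he' : Lb.comap π = M
      · exact Or.inl ((Subgroup.comap_injective hs) (he'.trans hM))
      right
      have h1 := hinv (Lb.comap π) (fun x hx => by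
        rw [Subgroup.mem_comap, hπ1 x hx]
        exact one_mem _) (Subgroup.comap_mono hle) he' (by
        rw [← Subgroup.comap_normalizer_eq_of_surjective Lb hs]
        exact Subgroup.map_le_iff_le_comap.mp hPn)
      rw [Subgroup.eq_bot_iff_forall]
      intro y hy
      obtain ⟨g, rfl⟩ := hs y
      exact hπ1 g (h1.le hy)
    have hab : ∀ m ∈ M, ∀ n ∈ M, ⁅m, n⁆ ∈ O := by
      by_cases hKb0 : Kb = ⊥
      · intro m hm n _
        have hmO : m ∈ O := by
          rw [← QuotientGroup.eq_one_iff, ← Subgroup.mem_bot, ← hKb0]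
          exact hm
        have h1 := O.mul_mem hmO ((inferInstance : O.Normal).conj_mem _ (O.inv_mem hmO) n)
        simpa [commutatorElement_def, mul_assoc] using h1
      obtain ⟨q, hq, hqd⟩ := Nat.exists_prime_and_dvd (n := Nat.card Kb) (fun h =>
        hKb0 (Subgroup.eq_bot_of_card_eq Kb h))
      haveI := Fact.mk hq
      set Pb := (P : Subgroup G).map π with hPb
      have hPbp : IsPGroup p Pb := P.2.map π
      obtain ⟨k, hk⟩ := hPbp.exists_card_eq
      haveI : Group.IsNilpotent Pb := hPbp.isNilpotent
      obtain ⟨Q, hQ⟩ := coprime_exists_invariant_sylow (A := Pb) (K := Kb)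
        (Subgroup.le_normalizer_of_normal ..)
        (by rw [hk]; exact ((card_pPrimeCore_coprime p).pow_right k).symm) (Or.inl inferInstance) q
      have hQ0 : (Q : Subgroup Kb).map Kb.subtype ≠ ⊥ := by
        rw [ne_eq, Subgroup.map_eq_bot_iff_of_injective _ Kb.subtype_injective]
        intro h
        have := Q.not_dvd_index
        rw [h, Subgroup.index_bot] at this
        exact this hqd
      have hQK := (hpre _ (Subgroup.map_subtype_le _) hQ).resolve_right hQ0
      have hKq : IsPGroup q Kb := by
        rw [← hQK]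
        exact Q.2.map _
      haveI : Group.IsNilpotent Kb := hKq.isNilpotent
      haveI : Nontrivial Kb := (Subgroup.nontrivial_iff_ne_bot Kb).mpr hKb0
      set D := (_root_.commutator Kb).map Kb.subtype with hD
      have hD' := hpre D (Subgroup.map_subtype_le _) (Subgroup.le_normalizer_of_normal ..)
      have hDbot : D = ⊥ := hD'.resolve_left fun h =>
        (Group.IsSolvable.commutator_lt_top_of_nontrivial Kb).ne (Subgroup.map_injective Kb.subtype_injective (by
          rw [← MonoidHom.range_eq_map, Subgroup.range_subtype]; exact h))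
      intro m hm n hn
      rw [← QuotientGroup.eq_one_iff, ← Subgroup.mem_bot, ← hDbot]
      exact ⟨⁅(⟨π m, hm⟩ : Kb), ⟨π n, hn⟩⁆,
        Subgroup.commutator_mem_commutator (Subgroup.mem_top _) (Subgroup.mem_top _),
        by simp only [map_commutatorElement, Subgroup.coe_subtype]; exact (map_commutatorElement π m n).symm⟩
    -- the Thompson subgroup is normal
    have hle : ∀ {A : Subgroup G}, A ∈ ZJ.goodMax 0 (P : Subgroup G) → A ≤ O := fun hA =>
      ThompsonFive.le_pCore5 hp5 hCO hOM hab hKcop hMq P hA
    have hgm : ZJ.goodMax 0 (P : Subgroup G) = ZJ.goodMax 0 O := by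
      have hOP : O ≤ (P : Subgroup G) := pCore_le_sylow P
      obtain ⟨A0, hA0⟩ := ZJ.goodMax_nonempty 0 (P : Subgroup G)
      ext A
      constructor
      · intro hA
        exact ⟨hle hA, hA.2.1, fun B hB hBg => hA.2.2 B (hB.trans hOP) hBg⟩
      · rintro ⟨h1, h2, h3⟩
        exact ⟨h1.trans hOP, h2, fun B hB hBg => (hA0.2.2 B hB hBg).trans (h3 A0 (hle hA0) hA0.2.1)⟩
    have hJ : Subgroup.normalizer (ZJ.thompsonJ 0 (P : Subgroup G) : Set G) = ⊤ := by
      rw [show ZJ.thompsonJ 0 (P : Subgroup G) = ZJ.thompsonJ 0 O by rw [ZJ.thompsonJ, ZJ.thompsonJ, hgm]]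
      refine top_le_iff.1 (le_trans ?_ (normalizer_le_normalizer_J O))
      exact (Subgroup.normalizer_eq_top_iff.mpr inferInstance).ge
    refine hG (hasNormalPComplement_of_equiv Subgroup.topEquiv ?_)
    have h2 := hC
    unfold CritJ at h2
    rwa [hJ] at h2

end CfsgLib.ThompsonComplement
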